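import Mathlib

/-! Two-term sums of powers of two modulo a large divisor of `2 ^ n - 1`, and their consequence
for field automorphisms at an element of large multiplicative order. -/

set_option autoImplicit false

namespace Cfsg.Agent.H19.Suz

lemma rot_val {x k n : ℕ} (hx : x < n) (hk : k ≤ n) :
    (x + k) % n = if x + k < n then x + k else x + k - n := by
  split_ifs with h
  · exact Nat.mod_eq_of_lt h
  · rw [Nat.mod_eq_sub_mod (by omega)]
    exact Nat.mod_eq_of_lt (by omega)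

lemma exists_rot_sorted {n p q r s : ℕ} (h1 : p ≤ q) (h2 : q ≤ r) (h3 : r ≤ s) (h4 : s < n) :
    ∃ k ≤ n, 4 * ((p + k) % n) ≤ 3 * n ∧ 4 * ((q + k) % n) ≤ 3 * n ∧
      4 * ((r + k) % n) ≤ 3 * n ∧ 4 * ((s + k) % n) ≤ 3 * n := by
  have key : ∀ k ≤ n, (∀ x : ℕ, (x = p ∨ x = q ∨ x = r ∨ x = s) →
      4 * (if x + k < n then x + k else x + k - n) ≤ 3 * n) →
      ∃ k ≤ n, 4 * ((p + k) % n) ≤ 3 * n ∧ 4 * ((q + k) % n) ≤ 3 * n ∧
        4 * ((r + k) % n) ≤ 3 * n ∧ 4 * ((s + k) % n) ≤ 3 * n := by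
    intro k hk h
    refine ⟨k, hk, ?_, ?_, ?_, ?_⟩ <;> rw [rot_val (by omega) hk] <;> apply h <;> simp
  by_cases c1 : n ≤ 4 * (q - p)
  · exact key (n - q) (by omega) (by rintro x (rfl | rfl | rfl | rfl) <;> split_ifs <;> omega)
  by_cases c2 : n ≤ 4 * (r - q)
  · exact key (n - r) (by omega) (by rintro x (rfl | rfl | rfl | rfl) <;> split_ifs <;> omega)
  by_cases c3 : n ≤ 4 * (s - r)
  · exact key (n - s) (by omega) (by rintro x (rfl | rfl | rfl | rfl) <;> split_ifs <;> omega)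
  exact key (n - p) (by omega) (by rintro x (rfl | rfl | rfl | rfl) <;> split_ifs <;> omega)

lemma exists_rot {n a b c e : ℕ} (ha : a < n) (hb : b < n) (hc : c < n) (he : e < n) :
    ∃ k ≤ n, 4 * ((a + k) % n) ≤ 3 * n ∧ 4 * ((b + k) % n) ≤ 3 * n ∧
      4 * ((c + k) % n) ≤ 3 * n ∧ 4 * ((e + k) % n) ≤ 3 * n := by
  wlog hab : a ≤ b generalizing a b
  · obtain ⟨k, hk, h1, h2, h3, h4⟩ := this hb ha (by omega)
    exact ⟨k, hk, h2, h1, h3, h4⟩
  wlog hce : c ≤ e generalizing c e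
  · obtain ⟨k, hk, h1, h2, h3, h4⟩ := this he hc (by omega)
    exact ⟨k, hk, h1, h2, h4, h3⟩
  wlog hac : a ≤ c generalizing a b c e
  · obtain ⟨k, hk, h1, h2, h3, h4⟩ := this hc he hce ha hb hab (by omega)
    exact ⟨k, hk, h3, h4, h1, h2⟩
  rcases le_total b c with h | h
  · exact exists_rot_sorted hab h hce he
  rcases le_total b e with h' | h'
  · obtain ⟨k, hk, h1, h2, h3, h4⟩ := exists_rot_sorted hac h h' he
    exact ⟨k, hk, h1, h3, h2, h4⟩
  · obtain ⟨k, hk, h1, h2, h3, h4⟩ := exists_rot_sorted hac hce h' hb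
    exact ⟨k, hk, h1, h4, h2, h3⟩

lemma pow_sum_inj {a b c e : ℕ} (h : 2 ^ a + 2 ^ b = 2 ^ c + 2 ^ e) :
    (a = c ∧ b = e) ∨ (a = e ∧ b = c) := by
  wlog hab : a ≤ b generalizing a b
  · rcases this (a := b) (b := a) (by omega) (by omega) with ⟨h1, h2⟩ | ⟨h1, h2⟩
    · exact Or.inr ⟨h2, h1⟩
    · exact Or.inl ⟨h2, h1⟩
  wlog hce : c ≤ e generalizing c e
  · rcases this (c := e) (e := c) (by omega) (by omega) with ⟨h1, h2⟩ | ⟨h1, h2⟩
    · exact Or.inr ⟨h1, h2⟩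
    · exact Or.inl ⟨h1, h2⟩
  have hbe : b = e := by
    rcases lt_trichotomy b e with hlt | heq | hgt
    · have h1 : 2 ^ (b + 1) ≤ 2 ^ e := Nat.pow_le_pow_right (by norm_num) hlt
      have h2 : 2 ^ a ≤ 2 ^ b := Nat.pow_le_pow_right (by norm_num) hab
      have h3 : 0 < 2 ^ c := Nat.two_pow_pos c
      rw [pow_succ] at h1
      omega
    · exact heq
    · have h1 : 2 ^ (e + 1) ≤ 2 ^ b := Nat.pow_le_pow_right (by norm_num) hgt
      have h2 : 2 ^ c ≤ 2 ^ e := Nat.pow_le_pow_right (by norm_num) hce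
      have h3 : 0 < 2 ^ a := Nat.two_pow_pos a
      rw [pow_succ] at h1
      omega
  subst hbe
  exact Or.inl ⟨Nat.pow_right_injective le_rfl (by show 2 ^ a = 2 ^ c; omega), rfl⟩

lemma eight_mul_lt : ∀ g : ℕ, 6 ≤ g → 8 * g < 2 ^ g := by
  intro g hg
  induction g, hg using Nat.le_induction with
  | base => norm_num
  | succ g hg ih => rw [pow_succ]; omega

set_option maxSynthPendingDepth 8 in
set_option synthInstance.maxSize 2000 in
lemma small_cases : ∀ n < 7, ∀ d < 4, d ∣ n → d ∣ 2 ^ n - 1 → 2 ≤ n →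
    ¬ (n = 6 ∧ d = 3) → ∀ a b c e : Fin n,
      d * (2 ^ (a : ℕ) + 2 ^ (b : ℕ)) % (2 ^ n - 1) = d * (2 ^ (c : ℕ) + 2 ^ (e : ℕ)) % (2 ^ n - 1) →
      (a = c ∧ b = e) ∨ (a = e ∧ b = c) := by
  decide +kernel

lemma gap_small : ∀ n < 21, 7 ≤ n → 2 * Nat.gcd n (2 ^ n - 1) < 2 ^ ((n + 3) / 4) := by
  decide +kernel

lemma small_d : ∀ n < 7, n = 0 ∨ Nat.gcd n (2 ^ n - 1) < 4 := by
  decide +kernel

theorem two_pow_sums {n d a b c e : ℕ} (hn : 2 ≤ n) (hd : d ∣ n) (hd' : d ∣ 2 ^ n - 1)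
    (hex : ¬ (n = 6 ∧ d = 3))
    (ha : a < n) (hb : b < n) (hc : c < n) (he : e < n)
    (h : d * (2 ^ a + 2 ^ b) ≡ d * (2 ^ c + 2 ^ e) [MOD 2 ^ n - 1]) :
    (a = c ∧ b = e) ∨ (a = e ∧ b = c) := by
  have hdpos : 0 < d := Nat.pos_of_dvd_of_pos hd (by omega)
  have hdgcd : d ≤ Nat.gcd n (2 ^ n - 1) :=
    Nat.le_of_dvd (Nat.gcd_pos_of_pos_left _ (by omega)) (Nat.dvd_gcd hd hd')
  rcases Nat.lt_or_ge n 7 with hn7 | hn7
  · have := (small_d n hn7).resolve_left (by omega)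
    simpa [Fin.ext_iff] using small_cases n hn7 d (by omega) hd hd' hn hex ⟨a, ha⟩ ⟨b, hb⟩ ⟨c, hc⟩ ⟨e, he⟩ h
  obtain ⟨g, hg⟩ : ∃ g, g = (n + 3) / 4 := ⟨_, rfl⟩
  have hgap : 2 * d < 2 ^ g := by
    rcases Nat.lt_or_ge n 21 with hn21 | hn21
    · have := gap_small n hn21 hn7
      rw [← hg] at this
      omega
    · have h1 := eight_mul_lt g (by omega)
      have h2 : d ≤ n := Nat.le_of_dvd (by omega) hd
      omega
  obtain ⟨k, hk, hak, hbk, hck, hek⟩ := exists_rot ha hb hc he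
  obtain ⟨M, hM⟩ : ∃ M, M = n - g := ⟨_, rfl⟩
  have hmod : 2 ^ n ≡ 1 [MOD 2 ^ n - 1] :=
    ((Nat.modEq_iff_dvd' Nat.one_le_two_pow).mpr dvd_rfl).symm
  have hred : ∀ x, 2 ^ x ≡ 2 ^ (x % n) [MOD 2 ^ n - 1] := fun x => by
    conv_lhs => rw [← Nat.div_add_mod x n, pow_add, pow_mul]
    simpa using (hmod.pow (x / n)).mul_right (2 ^ (x % n))
  have hshift : ∀ x y, d * (2 ^ x + 2 ^ y) * 2 ^ k ≡
      d * (2 ^ ((x + k) % n) + 2 ^ ((y + k) % n)) [MOD 2 ^ n - 1] := fun x y => by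
    rw [show d * (2 ^ x + 2 ^ y) * 2 ^ k = d * (2 ^ (x + k) + 2 ^ (y + k)) by
      rw [pow_add, pow_add]; ring]
    exact ((hred _).add (hred _)).mul_left d
  have h' := ((hshift a b).symm.trans (h.mul_right (2 ^ k))).trans (hshift c e)
  have hlt : ∀ A B : ℕ, 4 * A ≤ 3 * n → 4 * B ≤ 3 * n → d * (2 ^ A + 2 ^ B) < 2 ^ n - 1 := by
    intro A B hA hB
    have hA' : 2 ^ A ≤ 2 ^ M := Nat.pow_le_pow_right (by norm_num) (by omega)
    have hB' : 2 ^ B ≤ 2 ^ M := Nat.pow_le_pow_right (by norm_num) (by omega)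
    have h1 : d * (2 ^ A + 2 ^ B) ≤ 2 * d * 2 ^ M := by
      rw [mul_comm 2 d, mul_assoc]; gcongr; omega
    have h2 : (2 * d + 1) * 2 ^ M ≤ 2 ^ g * 2 ^ M := Nat.mul_le_mul_right _ hgap
    rw [← pow_add, show g + M = n by omega, add_mul, one_mul] at h2
    have h3 : 2 ^ 1 ≤ 2 ^ M := Nat.pow_le_pow_right (by norm_num) (by omega)
    omega
  have h'' := Nat.ModEq.eq_of_lt_of_lt h' (hlt _ _ hak hbk) (hlt _ _ hck hek)
  have hsum := Nat.eq_of_mul_eq_mul_left hdpos h''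
  have hinj : ∀ {x y : ℕ}, x < n → y < n → (x + k) % n = (y + k) % n → x = y := by
    intro x y hx hy q
    rw [rot_val hx hk, rot_val hy hk] at q
    split_ifs at q <;> omega
  rcases pow_sum_inj hsum with ⟨h1, h2⟩ | ⟨h1, h2⟩
  · exact Or.inl ⟨hinj ha hc h1, hinj hb he h2⟩
  · exact Or.inr ⟨hinj ha he h1, hinj hb hc h2⟩

lemma double_six : ∀ a b c : Fin 6,
    (2 ^ (a : ℕ) + 2 ^ (b : ℕ)) % 21 = (2 ^ (c : ℕ) + 2 ^ (c : ℕ)) % 21 → a = c ∧ b = c := by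
  decide +kernel

lemma twist_six : ∀ s : Fin 6, Nat.gcd 21 (2 ^ (s : ℕ) - 1) = 1 →
    (∀ r c : Fin 6, (2 ^ (r : ℕ) + 2 ^ ((c : ℕ) + s)) % 21 = (2 ^ (c : ℕ) + 2 ^ ((r : ℕ) + s)) % 21 →
      r = c) ∧
    (∀ r t : Fin 6, (2 ^ (r : ℕ) + 2 ^ (t : ℕ)) % 21 = (1 + 2 ^ ((r : ℕ) + s)) % 21 → t = s) := by
  decide +kernel

/-- Arithmetic properties of an element of large multiplicative order of a field of characteristic
two: conjugates are distinct, and so are the twisted conjugates `lam / φ lam`. -/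
structure Rigid {F : Type*} [Field F] (lam : F) : Prop where
  ne0 : lam ≠ 0
  double : ∀ φ ψ χ : F ≃+* F, φ lam * ψ lam = χ lam * χ lam → φ = χ ∧ ψ = χ
  twist : ∀ φ : F ≃+* F, φ ≠ RingEquiv.refl F →
    (∀ i : ℕ, φ (lam ^ i) = lam ^ i → lam ^ i = 1) →
    (∀ ψ χ : F ≃+* F, ψ (lam / φ lam) = χ (lam / φ lam) → ψ = χ) ∧
    ∀ ψ ψ₀ : F ≃+* F, ψ (lam / φ lam) = lam / ψ₀ lam → ψ₀ = φ

lemma Rigid.conj_inj {F : Type*} [Field F] {lam : F} (h : Rigid lam) {ψ χ : F ≃+* F}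
    (q : ψ lam = χ lam) : ψ = χ :=
  (h.double ψ ψ χ (by rw [q])).1

theorem card_ringEquiv_two {F : Type*} [Field F] [Fintype F] [CharP F 2] {n : ℕ}
    (hF : Nat.card F = 2 ^ n) : Nat.card (F ≃+* F) = n := by
  haveI : Fact (Nat.Prime 2) := ⟨Nat.prime_two⟩
  let _ : Algebra (ZMod 2) F := ZMod.algebra F 2
  have hfr : Module.finrank (ZMod 2) F = n := by
    have h := Module.natCard_eq_pow_finrank (K := ZMod 2) (V := F)
    rw [hF, Nat.card_zmod] at h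
    exact (Nat.pow_right_injective le_rfl h).symm
  rw [← hfr, ← IsGalois.card_aut_eq_finrank (ZMod 2) F]
  exact Nat.card_congr
    { toFun := fun σ => AlgEquiv.ofRingEquiv (f := σ) fun r => by
        obtain ⟨k, rfl⟩ : ∃ k : ℕ, (k : ZMod 2) = r := ⟨r.val, ZMod.natCast_zmod_val r⟩
        simp
      invFun := fun σ => σ.toRingEquiv
      left_inv := fun σ => rfl
      right_inv := fun σ => rfl }

theorem exists_frobenius_exponent {F : Type*} [Field F] [Fintype F] [CharP F 2] {n : ℕ}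
    (hn : 2 ≤ n) (hF : Nat.card F = 2 ^ n) (φ : F ≃+* F) :
    ∃ a < n, ∀ x : F, φ x = x ^ 2 ^ a := by
  haveI : Fact (Nat.Prime 2) := ⟨Nat.prime_two⟩
  classical
  let fr : Fin n → (F ≃+* F) := fun a => RingEquiv.ofBijective (iterateFrobenius F 2 a)
    (Finite.injective_iff_bijective.mp (iterateFrobenius F 2 a).injective)
  have happ : ∀ a x, fr a x = x ^ 2 ^ (a : ℕ) := fun a x => by
    show iterateFrobenius F 2 a x = _
    rw [iterateFrobenius_def]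
  obtain ⟨g, hg⟩ := IsCyclic.exists_generator (α := Fˣ)
  have hord : orderOf g = 2 ^ n - 1 := by
    rw [orderOf_eq_card_of_forall_mem_zpowers hg, Nat.card_units, hF]
  have hinj : Function.Injective fr := fun a b q => by
    have h := RingEquiv.congr_fun q (g : F)
    rw [happ, happ, ← Units.val_pow_eq_pow_val, ← Units.val_pow_eq_pow_val] at h
    have h2 := pow_inj_mod.mp (Units.ext h)
    have hlt : ∀ c : Fin n, 2 ^ (c : ℕ) < 2 ^ n - 1 := fun c => by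
      have hc := c.2
      have h1 : 2 ^ ((c : ℕ) + 1) ≤ 2 ^ n := Nat.pow_le_pow_right (by norm_num) hc
      rw [pow_succ] at h1
      rcases Nat.eq_zero_or_pos (c : ℕ) with h0 | h0
      · have : 2 ^ 2 ≤ 2 ^ n := Nat.pow_le_pow_right (by norm_num) hn
        rw [h0]; omega
      · have : 2 ^ 1 ≤ 2 ^ (c : ℕ) := Nat.pow_le_pow_right (by norm_num) h0
        omega
    rw [hord, Nat.mod_eq_of_lt (hlt a), Nat.mod_eq_of_lt (hlt b)] at h2
    exact Fin.ext (Nat.pow_right_injective le_rfl h2)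
  haveI : Finite (F ≃+* F) := Finite.of_injective (fun f => (f : F → F)) DFunLike.coe_injective
  obtain ⟨a, rfl⟩ := ((Nat.bijective_iff_injective_and_card fr).mpr
    ⟨hinj, by rw [card_ringEquiv_two hF, Nat.card_fin]⟩).2 φ
  exact ⟨a, a.2, happ a⟩

lemma pow_two_pow_mod {F : Type*} [Field F] [Fintype F] {n : ℕ} (hF : Nat.card F = 2 ^ n)
    (x : F) (k : ℕ) : x ^ 2 ^ k = x ^ 2 ^ (k % n) := by
  have h1 : ∀ q : ℕ, ∀ y : F, y ^ 2 ^ (n * q) = y := fun q => by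
    induction q with
    | zero => simp
    | succ q ih =>
      intro y
      rw [Nat.mul_succ, pow_add, pow_mul, ih, ← hF, Nat.card_eq_fintype_card, FiniteField.pow_card]
  conv_lhs => rw [← Nat.div_add_mod k n, pow_add, pow_mul, h1]

theorem rigid_of_order {F : Type*} [Field F] [Fintype F] [CharP F 2] {n d : ℕ} {lam : F}
    (hn : 2 ≤ n) (hF : Nat.card F = 2 ^ n) (hd : d ∣ n) (hlam : lam ≠ 0)
    (hord : orderOf lam * d = 2 ^ n - 1) : Rigid lam := by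
  choose ex hex_lt hex using exists_frobenius_exponent hn hF
  have hext : ∀ {φ ψ : F ≃+* F}, ex φ = ex ψ → φ = ψ := fun {φ ψ} q =>
    RingEquiv.ext fun x => by rw [hex φ, hex ψ, q]
  have hmod : ∀ {A B : ℕ}, lam ^ A = lam ^ B → A ≡ B [MOD orderOf lam] := fun {A B} q => by
    have h2 : (Units.mk0 lam hlam) ^ A = (Units.mk0 lam hlam) ^ B := Units.ext (by simpa using q)
    have h3 := pow_eq_pow_iff_modEq.mp h2
    rwa [← orderOf_units, Units.val_mk0] at h3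
  have gen : ¬ (n = 6 ∧ d = 3) → ∀ {a b c e : ℕ}, a < n → b < n → c < n → e < n →
      2 ^ a + 2 ^ b ≡ 2 ^ c + 2 ^ e [MOD orderOf lam] → (a = c ∧ b = e) ∨ (a = e ∧ b = c) := by
    intro hx a b c e ha hb hc he q
    have h2 := Nat.ModEq.mul_left' d q
    rw [mul_comm d (orderOf lam), hord] at h2
    exact two_pow_sums hn hd (Dvd.intro_left _ hord) hx ha hb hc he h2
  have h21 : n = 6 ∧ d = 3 → orderOf lam = 21 := by rintro ⟨rfl, rfl⟩; omega
  refine ⟨hlam, fun φ ψ χ q => ?_, fun φ hφ hfix => ?_⟩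
  · rw [hex φ, hex ψ, hex χ, ← pow_add, ← pow_add] at q
    have q' := hmod q
    by_cases hx : n = 6 ∧ d = 3
    · rw [h21 hx] at q'
      obtain ⟨rfl, rfl⟩ := hx
      obtain ⟨h1, h2⟩ := double_six ⟨_, hex_lt φ⟩ ⟨_, hex_lt ψ⟩ ⟨_, hex_lt χ⟩ q'
      exact ⟨hext (Fin.ext_iff.mp h1), hext (Fin.ext_iff.mp h2)⟩
    · rcases gen hx (hex_lt φ) (hex_lt ψ) (hex_lt χ) (hex_lt χ) q' with h | h <;>
        exact ⟨hext h.1, hext h.2⟩
  obtain ⟨s, hs⟩ : ∃ s, s = ex φ := ⟨_, rfl⟩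
  have hsn : s < n := hs ▸ hex_lt φ
  have hs0 : s ≠ 0 := fun h0 => hφ (RingEquiv.ext fun x => by rw [hex φ, ← hs, h0]; simp)
  have hφl : φ lam = lam ^ 2 ^ s := by rw [hex φ, ← hs]
  have hgcd : Nat.gcd (orderOf lam) (2 ^ s - 1) = 1 := by
    have hg : lam ^ Nat.gcd (orderOf lam) (2 ^ s - 1) ≠ 0 := pow_ne_zero _ hlam
    obtain ⟨u, hu⟩ := Nat.gcd_dvd_left (orderOf lam) (2 ^ s - 1)
    obtain ⟨v, hv⟩ := Nat.gcd_dvd_right (orderOf lam) (2 ^ s - 1)
    have hpos : 0 < orderOf lam := orderOf_pos_iff.mpr (isOfFinOrder_iff_isUnit.mpr hlam.isUnit)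
    obtain ⟨g, hg'⟩ : ∃ g, g = Nat.gcd (orderOf lam) (2 ^ s - 1) := ⟨_, rfl⟩
    rw [← hg'] at hu hv hg ⊢
    have h1 : φ (lam ^ u) = lam ^ u := by
      rw [map_pow, hφl, ← pow_mul]
      have e : 2 ^ s * u = u + orderOf lam * v := by
        have : 2 ^ s = g * v + 1 := by have := Nat.one_le_two_pow (n := s); omega
        rw [this, hu]; ring
      rw [e, pow_add, pow_mul, pow_orderOf_eq_one, one_pow, mul_one]
    have h2 := orderOf_dvd_of_pow_eq_one (hfix u h1)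
    rw [hu] at h2
    have hu0 : 0 < u := by
      rcases Nat.eq_zero_or_pos u with h | h
      · rw [h] at hu; omega
      · exact h
    have h3 := Nat.le_of_dvd hu0 h2
    have h4 : g ≠ 0 := fun h => by rw [h] at hu; omega
    by_contra hne
    have : 2 * u ≤ g * u := Nat.mul_le_mul_right _ (by omega)
    omega
  have hdiv : φ lam ≠ 0 := by simpa using hlam
  have hrot : ∀ {r : ℕ}, r < n → (r + s) % n = r → False := fun {r} hr q => by
    rw [rot_val hr hsn.le] at q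
    split_ifs at q <;> omega
  refine ⟨fun ψ χ q => ?_, fun ψ ψ₀ q => ?_⟩
  · have hψ : ψ (φ lam) ≠ 0 := by simpa using hdiv
    have hχ : χ (φ lam) ≠ 0 := by simpa using hdiv
    rw [map_div₀, map_div₀, div_eq_div_iff hψ hχ, hex ψ lam, hex χ lam, hφl, map_pow, map_pow,
      hex ψ lam, hex χ lam, ← pow_mul, ← pow_mul, ← pow_add (2 : ℕ), ← pow_add (2 : ℕ)] at q
    by_cases hx : n = 6 ∧ d = 3
    · rw [← pow_add, ← pow_add] at q
      have q' := hmod q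
      rw [h21 hx] at q' hgcd
      obtain ⟨rfl, rfl⟩ := hx
      exact hext (Fin.ext_iff.mp ((twist_six ⟨s, hsn⟩ hgcd).1 ⟨_, hex_lt ψ⟩ ⟨_, hex_lt χ⟩ q'))
    · rw [pow_two_pow_mod hF _ (ex χ + s), pow_two_pow_mod hF _ (ex ψ + s), ← pow_add,
        ← pow_add] at q
      rcases gen hx (hex_lt ψ) (Nat.mod_lt _ (by omega)) (hex_lt χ) (Nat.mod_lt _ (by omega))
        (hmod q) with h | h
      · exact hext h.1
      · exact (hrot (hex_lt ψ) h.1.symm).elim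
  · have hψ : ψ (φ lam) ≠ 0 := by simpa using hdiv
    have hψ₀ : ψ₀ lam ≠ 0 := by simpa using hlam
    rw [map_div₀, div_eq_div_iff hψ hψ₀, hex ψ lam, hex ψ₀ lam, hφl, map_pow, hex ψ lam,
      ← pow_mul, ← pow_add (2 : ℕ)] at q
    nth_rewrite 3 [← pow_one lam] at q
    by_cases hx : n = 6 ∧ d = 3
    · rw [← pow_add, ← pow_add] at q
      have q' := hmod q
      rw [h21 hx] at q' hgcd
      obtain ⟨rfl, rfl⟩ := hx
      apply hext
      rw [← hs]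
      exact Fin.ext_iff.mp ((twist_six ⟨s, hsn⟩ hgcd).2 ⟨_, hex_lt ψ⟩ ⟨_, hex_lt ψ₀⟩ q')
    · rw [pow_two_pow_mod hF _ (ex ψ + s), ← pow_add, ← pow_add] at q
      rcases gen hx (c := 0) (hex_lt ψ) (hex_lt ψ₀) (by omega) (Nat.mod_lt _ (by omega))
        (by simpa using hmod q) with h | h
      · apply hext
        rw [← hs, h.2, h.1, Nat.zero_add, Nat.mod_eq_of_lt hsn]
      · exact (hrot (hex_lt ψ) h.1.symm).elim

end Cfsg.Agent.H19.Suz
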