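import Cfsg.Agent.H19.Suz.Centre
import Cfsg.Agent.H38.SuzukiClass

/-! The decisive step for class two. -/

set_option autoImplicit false

namespace Cfsg.Agent.H19.Suz

open Cfsg.Agent.H38 (restrictAut restrictAut_apply restrictAut_pow_apply aut_pow_mem aut_pow_fix exists_fixed_of_coset char_invariant center_invariant additive_eq_sum autos_coeff_unique commute_commutator commutator_mem')
open scoped IsMulCommutative

universe u

variable {P : Type u} [Group P] [Finite P]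

/-- The decisive step: no minimal invariant piece over the abelian layer `R = P'Z`. -/
lemma s_no_piece {Ys : Set (MulAut P)} {σ : MulAut P} (h : SHyp P Ys σ) (hnc : ∃ x y : P, x * y ≠ y * x)
    {R : Subgroup P} [IsMulCommutative R] (hR : ∀ x ∈ R, σ x ∈ R) (hZR : Subgroup.center P ≤ R)
    (hP'R : commutator P ≤ R) (hRgen : R ≤ commutator P ⊔ Subgroup.center P)
    (hRsq : ∀ r ∈ R, r * r ∈ Subgroup.center P)
    (hRne : ∃ r ∈ R, r ∉ Subgroup.center P)
    (hRcen : ∀ r ∈ R, ∀ p : P, p * r * p⁻¹ * r⁻¹ ∈ Subgroup.center P)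
    (hPsq : ∀ p : P, p * p ∈ R)
    (hW : ∀ x : P, (∀ r ∈ R, x * r = r * x) → x ∈ R)
    {J : Subgroup P} (hJ : ∀ x ∈ J, σ x ∈ J) (hRJ : R < J)
    (hmin : ∀ S : Subgroup P, (∀ x ∈ S, σ x ∈ S) → R ≤ S → S < J → S = R) : False := by
  classical
  set Z := Subgroup.center P with hZdef
  have hZ2 : ∀ z ∈ Z, z * z = 1 := center_sq_eq_one h hnc
  have hZσ : ∀ x ∈ Z, σ x ∈ Z := center_invariant σ
  have hinvZ : ∀ {w : P}, w * w = 1 → w ∈ Z := fun {w} hw => by
    by_cases hw1 : w = 1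
    · exact hw1 ▸ one_mem Z
    · exact ((invol_iff_central h hnc w).mp ⟨hw1, hw⟩).1
  obtain ⟨u₀, v₀, huv, hu1, hu2, -, -⟩ := h.two
  haveI : Nontrivial Z := ⟨⟨u₀, hinvZ hu2⟩, 1, fun e => hu1 (congrArg Subtype.val e)⟩
  let τ := restrictAut σ Z hZσ
  have hZsq : ∀ z : Z, z * z = 1 := fun z => Subtype.ext (hZ2 _ z.2)
  have hZne : Z ≠ ⊥ := Z.nontrivial_iff_ne_bot.mp inferInstance
  obtain ⟨F, _, _, _, ec, lam, hrig, hadd, hinj, hsurj, hlam'⟩ := h.coords
  haveI : Finite (F ≃+* F) := Finite.of_injective (fun f => (f : F → F)) DFunLike.coe_injective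
  have := Fintype.ofFinite (F ≃+* F)
  obtain ⟨e, hec⟩ : ∃ e : Z ≃ F, ∀ z : Z, e z = ec z := by
    refine ⟨Equiv.ofBijective (fun z : Z => ec z) ⟨fun a b q => ?_, fun u => ?_⟩, fun z => rfl⟩
    · have h1 := hadd a b (hZ2 _ a.2) (hZ2 _ b.2)
      simp only at q
      rw [q, CharTwo.add_self_eq_zero] at h1
      have h2 := hinj _ h1.1 h1.2
      refine Subtype.ext ?_
      calc (a : P) = a * ((b : P) * b) := by rw [hZ2 _ b.2, mul_one]
        _ = b := by rw [← mul_assoc, h2, one_mul]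
    · obtain ⟨x, hx, hxe⟩ := hsurj u
      exact ⟨⟨x, hinvZ hx⟩, hxe⟩
  have he : ∀ a b, e (a * b) = e a + e b := fun a b => by
    rw [hec, hec, hec]; exact (hadd _ _ (hZ2 _ a.2) (hZ2 _ b.2)).2
  have hlam : ∀ z, e (τ z) = lam * e z := fun z => by
    rw [hec, hec, restrictAut_apply]
    exact hlam' _ (hZ2 _ z.2)
  have he1 : e 1 = 0 := by have := he 1 1; rw [one_mul] at this; exact left_eq_add.mp this
  have hecong : ∀ {a b : P} (ha : a ∈ Z) (hb : b ∈ Z), a = b → e ⟨a, ha⟩ = e ⟨b, hb⟩ :=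
    fun _ _ q => congrArg e (Subtype.ext q)
  -- the square coordinate on `R`
  let ρ : P → F := fun p => if hp : p * p ∈ Z then e ⟨p * p, hp⟩ else 0
  have hρ : ∀ {r} (hr : r ∈ R), ρ r = e ⟨r * r, hRsq r hr⟩ := fun hr => dif_pos (hRsq _ hr)
  have hRcomm : ∀ {a b : P}, a ∈ R → b ∈ R → a * b = b * a := fun ha hb =>
    congrArg Subtype.val (mul_comm (⟨_, ha⟩ : R) ⟨_, hb⟩)
  have hρmul : ∀ {a b : P}, a ∈ R → b ∈ R → ρ (a * b) = ρ a + ρ b := fun {a b} ha hb => by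
    rw [hρ ha, hρ hb, hρ (mul_mem ha hb), ← he]
    refine hecong _ (mul_mem (hRsq a ha) (hRsq b hb)) ?_
    rw [show a * b * (a * b) = a * (b * a) * b by group, ← hRcomm ha hb]; group
  have hρ0 : ∀ {r}, r ∈ R → (ρ r = 0 ↔ r ∈ Z) := fun {r} hr => by
    rw [hρ hr, ← he1, e.apply_eq_iff_eq, Subtype.ext_iff]
    exact ⟨fun q => hinvZ q, fun q => hZ2 r q⟩
  have hρσ : ∀ {r}, r ∈ R → ρ (σ r) = lam * ρ r := fun {r} hr => by
    rw [hρ hr, hρ (hR r hr), ← hlam]
    exact hecong _ (τ ⟨r * r, hRsq r hr⟩).2 (map_mul σ r r).symm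
  have hRn : ∀ {r} (p : P), r ∈ R → p * r * p⁻¹ ∈ R := fun {r} p hr => by
    rw [show p * r * p⁻¹ = p * r * p⁻¹ * r⁻¹ * r by group]
    exact mul_mem (hZR (hRcen r hr p)) hr
  have hρconj : ∀ {r} (p : P), r ∈ R → ρ (p * r * p⁻¹) = ρ r := fun {r} p hr => by
    rw [show p * r * p⁻¹ = p * r * p⁻¹ * r⁻¹ * r by group, hρmul (hZR (hRcen r hr p)) hr,
      (hρ0 (hZR (hRcen r hr p))).mpr (hRcen r hr p), zero_add]
  obtain ⟨r₀, hr₀, hr₀Z⟩ := hRne
  have hρsurj : ∀ u, ∃ r ∈ R, ρ r = u :=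
    eq_univ_of_invariant (fun ψ χ q => hrig.conj_inj q) {u | ∃ r ∈ R, ρ r = u}
      ⟨1, one_mem R, (hρ0 (one_mem R)).mpr (one_mem Z)⟩
      (by rintro _ ⟨a, ha, rfl⟩ _ ⟨b, hb, rfl⟩; exact ⟨a * b, mul_mem ha hb, hρmul ha hb⟩)
      (by rintro _ ⟨a, ha, rfl⟩; exact ⟨σ a, hR a ha, hρσ ha⟩)
      ⟨r₀, hr₀, rfl⟩ (fun q => hr₀Z ((hρ0 hr₀).mp q))
  choose sec hsec hρsec using hρsurj
  -- the action of `P` on `R`, as additive maps of the field
  let d : P → P → F := fun p r =>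
    if hr : p * r * p⁻¹ * r⁻¹ ∈ Z then e ⟨_, hr⟩ else 0
  have hd : ∀ p {r}, (hr : r ∈ R) → d p r = e ⟨_, hRcen r hr p⟩ :=
    fun p r hr => dif_pos (hRcen r hr p)
  have hdr : ∀ p {a b}, a ∈ R → b ∈ R → d p (a * b) = d p a + d p b := fun p {a b} ha hb => by
    rw [hd p ha, hd p hb, hd p (mul_mem ha hb), ← he]
    refine hecong _ (mul_mem (hRcen a ha p) (hRcen b hb p)) ?_
    have hc := Subgroup.mem_center_iff.mp (hRcen b hb p) a
    calc p * (a * b) * p⁻¹ * (a * b)⁻¹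
        = p * a * p⁻¹ * a⁻¹ * (a * (p * b * p⁻¹ * b⁻¹) * a⁻¹) := by group
      _ = _ := by rw [hc, mul_inv_cancel_right]
  have hdl : ∀ p p' {r}, r ∈ R → d (p * p') r = d p r + d p' r := fun p p' {r} hr => by
    rw [hd _ hr, hd _ hr, hd _ hr, ← he]
    refine hecong _ (mul_mem (hRcen r hr p) (hRcen r hr p')) ?_
    have hc := Subgroup.mem_center_iff.mp (hRcen r hr p') p
    have hc' := Subgroup.mem_center_iff.mp (hRcen r hr p') (p * r * p⁻¹ * r⁻¹)
    calc p * p' * r * (p * p')⁻¹ * r⁻¹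
        = p * (p' * r * p'⁻¹ * r⁻¹) * p⁻¹ * (p * r * p⁻¹ * r⁻¹) := by group
      _ = _ := by rw [hc, mul_inv_cancel_right, hc']
  have hdσ : ∀ p {r}, r ∈ R → d (σ p) (σ r) = lam * d p r := fun p {r} hr => by
    rw [hd _ (hR r hr), hd _ hr, ← hlam]
    exact hecong _ (τ ⟨_, hRcen r hr p⟩).2 (by
      show _ = σ _
      simp [map_mul, map_inv])
  have hdz : ∀ p {z}, z ∈ Z → d p z = 0 := fun p {z} hz => by
    rw [hd p (hZR hz), ← he1]
    exact hecong _ (one_mem Z) (by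
      rw [Subgroup.mem_center_iff.mp hz p, mul_inv_cancel_right, mul_inv_cancel])
  have hdwell : ∀ p {a b}, a ∈ R → b ∈ R → ρ a = ρ b → d p a = d p b := fun p {a b} ha hb q => by
    have hz : a⁻¹ * b ∈ Z := (hρ0 (mul_mem (inv_mem ha) hb)).mp (by
      have h1 := hρmul ha (mul_mem (inv_mem ha) hb)
      rw [mul_inv_cancel_left, ← q] at h1
      exact left_eq_add.mp h1)
    have h1 := hdr p ha (hZR hz)
    rwa [mul_inv_cancel_left, hdz p hz, add_zero, eq_comm] at h1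
  let Dm : P → (F →+ F) := fun p =>
    AddMonoidHom.mk' (fun u => d p (sec u)) fun u v => by
      rw [← hdr p (hsec u) (hsec v)]
      exact hdwell p (hsec _) (mul_mem (hsec u) (hsec v))
        (by rw [hρmul (hsec u) (hsec v), hρsec, hρsec, hρsec])
  have hDm : ∀ p {r}, r ∈ R → Dm p (ρ r) = d p r := fun p {r} hr =>
    hdwell p (hsec _) hr (hρsec _)
  choose c hc using fun p => additive_eq_sum (Dm p)
  have hcl : ∀ p p' ψ, c (p * p') ψ = c p ψ + c p' ψ := fun p p' => congrFun <|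
    autos_coeff_unique (c := c (p * p')) (c' := fun ψ => c p ψ + c p' ψ) fun u => by
      rw [← hc]
      simp only [add_mul, Finset.sum_add_distrib, ← hc]
      exact hdl p p' (hsec u)
  have hc1 : ∀ ψ, c 1 ψ = 0 := fun ψ => by
    have := hcl 1 1 ψ; rw [one_mul] at this; exact left_eq_add.mp this
  have hlam0 : lam ≠ 0 := hrig.ne0
  have hcσ : ∀ p ψ, c (σ p) ψ = lam / ψ lam * c p ψ := fun p ψ => by
    have h1 := autos_coeff_unique (c := fun χ => c (σ p) χ * χ lam) (c' := fun χ => lam * c p χ)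
      fun u => by
        have h2 : Dm (σ p) (lam * u) = lam * Dm p u := by
          rw [← hρsec u, ← hρσ (hsec u), hDm _ (hR _ (hsec u)), hdσ _ (hsec u), hDm _ (hsec u)]
        rw [hc, hc] at h2
        simpa [Finset.mul_sum, mul_assoc] using h2
    have h3 := congrFun h1 ψ
    have hψ : ψ lam ≠ 0 := by simpa using hlam0
    field_simp
    linear_combination h3
  have hciter : ∀ (i : ℕ) p ψ, c ((σ ^ i) p) ψ = lam ^ i / ψ (lam ^ i) * c p ψ := fun i => by
    induction i with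
    | zero => simp
    | succ i ih =>
      intro p ψ
      rw [pow_succ', MulAut.mul_apply, hcσ, ih, pow_succ', map_mul]
      field_simp
  have hzeroR : ∀ p, (∀ ψ, c p ψ = 0) → p ∈ R := fun p hp => hW p fun r hr => by
    have h0 : d p r = 0 := by rw [← hDm p hr, hc]; simp [hp]
    rw [hd p hr, ← he1] at h0
    have h2 : p * r * p⁻¹ * r⁻¹ = 1 := congrArg Subtype.val (e.injective h0)
    rwa [mul_inv_eq_one, mul_inv_eq_iff_eq_mul] at h2
  have hRzero : ∀ p ∈ R, ∀ ψ, c p ψ = 0 := fun p hp => congrFun <|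
    autos_coeff_unique (c := c p) (c' := fun _ => 0) fun u => by
      rw [← hc]
      show d p (sec u) = _
      rw [hd p (hsec u)]
      refine Eq.trans ?_ (by simp : (0 : F) = _)
      rw [← he1]
      exact hecong _ (one_mem Z) (by
        rw [hRcomm hp (hsec u), mul_inv_cancel_right, mul_inv_cancel])
  obtain ⟨t₀, ht₀, ht₀R⟩ := SetLike.exists_of_lt hRJ
  obtain ⟨φ, hφ₀⟩ : ∃ φ, c t₀ φ ≠ 0 := by
    by_contra hh
    push Not at hh
    exact ht₀R (hzeroR t₀ hh)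
  let K : Subgroup P :=
    { carrier := {p | p ∈ J ∧ c p φ = 0}
      one_mem' := ⟨one_mem J, hc1 φ⟩
      mul_mem' := fun {a b} ha hb => ⟨mul_mem ha.1 hb.1, by rw [hcl, ha.2, hb.2, add_zero]⟩
      inv_mem' := fun {a} ha => ⟨inv_mem ha.1, by
        have := hcl a⁻¹ a φ
        rw [inv_mul_cancel, hc1, ha.2, add_zero] at this
        exact this.symm⟩ }
  have hKR : K = R := hmin K (fun x hx => ⟨hJ x hx.1, by rw [hcσ, hx.2, mul_zero]⟩)
    (fun r hr => ⟨hRJ.le hr, hRzero r hr φ⟩)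
    (lt_of_le_of_ne (fun x hx => hx.1) fun q => hφ₀ (q ▸ ht₀ : t₀ ∈ K).2)
  have hker : ∀ {a b}, a ∈ J → b ∈ J → c a φ = c b φ → a⁻¹ * b ∈ R := fun {a b} ha hb q => by
    rw [← hKR]
    refine ⟨mul_mem (inv_mem ha) hb, ?_⟩
    have := hcl a (a⁻¹ * b) φ
    rw [mul_inv_cancel_left, ← q] at this
    exact left_eq_add.mp this
  -- the fixed field of `φ` is the prime field
  obtain ⟨N, hNodd, hN⟩ := h.odd
  have hfix : ∀ i : ℕ, φ (lam ^ i) = lam ^ i → lam ^ i = 1 := by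
    intro i hφa
    have hq : c t₀ φ = c ((σ ^ i) t₀) φ := by
      rw [hciter, hφa, div_self (pow_ne_zero i hlam0), one_mul]
    have hy := hker ht₀ (aut_pow_mem hJ i ht₀) hq
    obtain ⟨w, hw, hwfix⟩ := exists_fixed_of_coset h.pgroup hNodd
      (σ := σ ^ i) (by rw [← pow_mul, mul_comm, pow_mul, hN, one_pow])
      (fun x hx => aut_pow_mem hR i hx) hy
    obtain ⟨k, hk1, hk2⟩ := h.exists_pow_invol (x := t₀ * w) fun q => ht₀R (by
      rw [eq_inv_of_mul_eq_one_left q]; exact inv_mem hw)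
    set z : Z := ⟨(t₀ * w) ^ 2 ^ k, hinvZ hk2⟩ with hz
    have hτ : ∀ j, e ((τ ^ j) z) = lam ^ j * e z := fun j => by
      induction j with
      | zero => simp
      | succ j ih => rw [pow_succ', MulAut.mul_apply, hlam, ih, pow_succ', mul_assoc]
    have hz0 : e z ≠ 0 := fun q => hk1 (congrArg Subtype.val (e.injective (q.trans he1.symm)))
    have h2 : (τ ^ i) z = z := Subtype.ext (by
      rw [restrictAut_pow_apply, hz]
      show (σ ^ i) ((t₀ * w) ^ 2 ^ k) = _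
      rw [map_pow, hwfix])
    have h3 := hτ i
    rw [h2] at h3
    exact (mul_eq_right₀ hz0).mp h3.symm
  have hφne : φ ≠ RingEquiv.refl F := fun q => ht₀R <| h.coset_fix hR
    (hker ht₀ (hJ t₀ ht₀) (by
      rw [hcσ, q, RingEquiv.refl_apply, div_self hlam0, one_mul]))
  obtain ⟨hμinj, hμsemi⟩ := hrig.twist φ hφne hfix
  have hJsurj : ∀ v, ∃ t ∈ J, c t φ = v :=
    eq_univ_of_invariant (μ := lam / φ lam) (fun ψ χ q => hμinj ψ χ q)
      {v | ∃ t ∈ J, c t φ = v} ⟨1, one_mem J, hc1 φ⟩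
      (by rintro _ ⟨a, ha, rfl⟩ _ ⟨b, hb, rfl⟩; exact ⟨a * b, mul_mem ha hb, hcl a b φ⟩)
      (by rintro _ ⟨a, ha, rfl⟩; exact ⟨σ a, hJ a ha, hcσ a φ⟩)
      ⟨t₀, ht₀, rfl⟩ hφ₀
  choose tv htv hctv using hJsurj
  -- only `φ` occurs on `J`
  have hmono : ∀ t ∈ J, ∀ ψ, ψ ≠ φ → c t ψ = 0 := by
    intro t ht ψ hψ
    have hwellψ : ∀ {a b}, a ∈ J → b ∈ J → c a φ = c b φ → c a ψ = c b ψ := fun {a b} ha hb q => by
      have := hcl a (a⁻¹ * b) ψ
      rw [mul_inv_cancel_left, hRzero _ (hker ha hb q) ψ, add_zero] at this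
      exact this.symm
    let H : F →+ F := AddMonoidHom.mk' (fun v => c (tv v) ψ) fun v w => by
      rw [← hcl]
      exact hwellψ (htv _) (mul_mem (htv _) (htv _)) (by rw [hcl, hctv, hctv, hctv])
    have h0 := semilinear_eq_zero (μ := lam / φ lam) (ν := lam / ψ lam)
      (fun χ q => hψ (hμsemi χ ψ q)) H (fun v => by
        show c (tv (lam / φ lam * v)) ψ = lam / ψ lam * c (tv v) ψ
        rw [← hcσ]
        exact hwellψ (htv _) (hJ _ (htv _)) (by rw [hctv, hcσ, hctv]))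
    rw [hwellψ ht (htv _) (hctv (c t φ)).symm]
    exact h0 _
  have hDt : ∀ t ∈ J, ∀ u, Dm t u = c t φ * φ u := fun t ht u => by
    rw [hc]
    exact Finset.sum_eq_single φ (fun ψ _ hψ => by rw [hmono t ht ψ hψ, zero_mul]) (by simp)
  have hJsq : ∀ t ∈ J, t * t ∈ Z := fun t ht => by
    by_cases htR : t ∈ R
    · exact hRsq t htR
    have hct : c t φ ≠ 0 := fun q => htR (hKR ▸ (⟨ht, q⟩ : t ∈ K))
    have h1 : d t (t * t) = 0 := by
      rw [hd t (hPsq t), ← he1]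
      exact hecong _ (one_mem Z) (by group)
    rw [← hDm t (hPsq t), hDt t ht, mul_eq_zero, or_iff_right hct] at h1
    exact (hρ0 (hPsq t)).mp (by simpa using h1)
  -- commutators with `J`
  have hkR : ∀ y t : P, y * t * y⁻¹ * t⁻¹ ∈ R := fun y t => hP'R (commutator_mem' y t)
  let g : P → P → F := fun y t => ρ (y * t * y⁻¹ * t⁻¹)
  have hgr : ∀ y t t', g y (t * t') = g y t + g y t' := fun y t t' => by
    show ρ _ = ρ _ + ρ _
    rw [show y * (t * t') * y⁻¹ * (t * t')⁻¹ =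
      y * t * y⁻¹ * t⁻¹ * (t * (y * t' * y⁻¹ * t'⁻¹) * t⁻¹) by group,
      hρmul (hkR y t) (hRn t (hkR y t')), hρconj t (hkR y t')]
  have hgl : ∀ y y' t, g (y * y') t = g y t + g y' t := fun y y' t => by
    show ρ _ = ρ _ + ρ _
    rw [show y * y' * t * (y * y')⁻¹ * t⁻¹ =
      y * (y' * t * y'⁻¹ * t⁻¹) * y⁻¹ * (y * t * y⁻¹ * t⁻¹) by group,
      hρmul (hRn y (hkR y' t)) (hkR y t), hρconj y (hkR y' t), add_comm]
  have hgR : ∀ y {r}, r ∈ R → g y r = 0 := fun y {r} hr =>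
    (hρ0 (hkR y r)).mpr (hRcen r hr y)
  have hgfix : ∀ y, ∀ t ∈ J, g y t = c t φ * φ (g y t) := fun y t ht => by
    set k := y * t * y⁻¹ * t⁻¹ with hk
    have hkR' : k ∈ R := hkR y t
    have h1 : k * (t * k * t⁻¹) = 1 := by
      have h2 : y * (t * t) * y⁻¹ = t * t := by
        rw [Subgroup.mem_center_iff.mp (hJsq t ht) y, mul_inv_cancel_right]
      rw [show k * (t * k * t⁻¹) = y * (t * t) * y⁻¹ * (t * t)⁻¹ by rw [hk]; group, h2,
        mul_inv_cancel]
    have hz : t * k * t⁻¹ * k⁻¹ ∈ Z := hRcen k hkR' t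
    have h3 : k * k = t * k * t⁻¹ * k⁻¹ := by
      have h4 : k * (t * k * t⁻¹ * k⁻¹) * k = 1 := by simpa [mul_assoc] using h1
      rw [Subgroup.mem_center_iff.mp hz k, mul_assoc] at h4
      rw [eq_inv_of_mul_eq_one_right h4, inv_eq_of_mul_eq_one_right (hZ2 _ hz)]
    show ρ k = _ * φ (ρ k)
    rw [← hDt t ht, hDm t hkR', hρ hkR', hd t hkR']
    exact hecong _ hz h3
  have hgwell : ∀ y {a b}, a ∈ J → b ∈ J → c a φ = c b φ → g y a = g y b := fun y {a b} ha hb q => by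
    have := hgr y a (a⁻¹ * b)
    rw [mul_inv_cancel_left, hgR y (hker ha hb q), add_zero] at this
    exact this.symm
  have hG : ∀ y v w, g y (tv (v + w)) = g y (tv v) + g y (tv w) := fun y v w => by
    rw [← hgr]
    exact hgwell y (htv _) (mul_mem (htv _) (htv _)) (by rw [hcl, hctv, hctv, hctv])
  let Y : Subgroup P :=
    { carrier := {y | ∀ t ∈ J, g y t = 0}
      one_mem' := fun t _ => by
        show ρ _ = 0
        simpa using (hρ0 (one_mem R)).mpr (one_mem Z)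
      mul_mem' := fun {a b} ha hb t ht => by rw [hgl, ha t ht, hb t ht, add_zero]
      inv_mem' := fun {a} ha t ht => by
        have := hgl a⁻¹ a t
        rw [inv_mul_cancel, ha t ht, add_zero] at this
        rw [← this]
        show ρ _ = 0
        simpa using (hρ0 (one_mem R)).mpr (one_mem Z) }
  -- all elements outside `Y` induce the same map
  have hsame : ∀ y, y ∉ Y → ∀ v, v ≠ 0 → g y (tv v) ≠ 0 := by
    intro y hy v hv hv0
    apply hy
    intro t ht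
    by_contra hne
    set w := c t φ
    have hgt : g y (tv w) ≠ 0 := by
      rwa [← hgwell y ht (htv w) (hctv w).symm]
    have h1 := hgfix y _ (htv w)
    have h2 := hgfix y _ (htv (w + v))
    rw [hctv] at h1 h2
    rw [hG, hv0, add_zero] at h2
    have h3 : (w + v) * φ (g y (tv w)) = w * φ (g y (tv w)) := h2.symm.trans h1
    exact hv (add_eq_left.mp (mul_right_cancel₀ (by simpa using hgt) h3))
  have hdiff : ∀ y y', y ∉ Y → y' ∉ Y → y⁻¹ * y' ∈ Y := by
    intro y y' hy hy' t ht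
    have hratsurj : Function.Surjective fun a : F => a / φ a := fun v => by
      by_cases hv : v = 0
      · exact ⟨0, by simp [hv]⟩
      refine ⟨g y (tv v), ?_⟩
      have h1 := hgfix y _ (htv v)
      rw [hctv] at h1
      show g y (tv v) / φ (g y (tv v)) = v
      rw [div_eq_iff (by simpa using hsame y hy v hv)]
      exact h1
    have hrat := Finite.injective_iff_surjective.mpr hratsurj
    have key : g y t = g y' t := by
      by_cases hw : c t φ = 0
      · rw [hgR y (hKR ▸ (⟨ht, hw⟩ : t ∈ K)), hgR y' (hKR ▸ (⟨ht, hw⟩ : t ∈ K))]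
      rw [hgwell y ht (htv _) (hctv _).symm, hgwell y' ht (htv _) (hctv _).symm]
      have h1 := hgfix y _ (htv (c t φ))
      have h2 := hgfix y' _ (htv (c t φ))
      rw [hctv] at h1 h2
      apply hrat
      show _ / _ = _ / _
      rw [eq_comm, ← eq_div_iff (by simpa using hsame y hy _ hw)] at h1
      rw [eq_comm, ← eq_div_iff (by simpa using hsame y' hy' _ hw)] at h2
      rw [← h1, ← h2]
    have := hgl y (y⁻¹ * y') t
    rw [mul_inv_cancel_left, key] at this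
    exact left_eq_add.mp this
  have hRY : R ≤ Y := fun r hr t ht => by
    have h1 : r * t * r⁻¹ * t⁻¹ ∈ Z := by
      rw [show r * t * r⁻¹ * t⁻¹ = (t * r * t⁻¹ * r⁻¹)⁻¹ by group]
      exact inv_mem (hRcen r hr t)
    exact (hρ0 (hkR r t)).mpr h1
  have hYσ : ∀ y ∈ Y, σ y ∈ Y := fun y hy t ht => by
    have ht' : σ.symm t ∈ J := by
      have h1 : (σ ^ (N - 1)) t ∈ J := aut_pow_mem hJ _ ht
      have h2 : σ ((σ ^ (N - 1)) t) = t := by
        rw [← MulAut.mul_apply, ← pow_succ', Nat.sub_add_cancel hNodd.pos, hN, MulAut.one_apply]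
      rwa [← h2, MulEquiv.symm_apply_apply]
    have h3 := hy _ ht'
    rw [show t = σ (σ.symm t) from (σ.apply_symm_apply t).symm]
    show ρ _ = 0
    rw [show σ y * σ (σ.symm t) * (σ y)⁻¹ * (σ (σ.symm t))⁻¹ =
      σ (y * σ.symm t * y⁻¹ * (σ.symm t)⁻¹) by simp [map_mul, map_inv], hρσ (hkR _ _)]
    exact mul_eq_zero_of_right _ h3
  -- `x ↦ x⁻¹σ(x)` is onto modulo `R`
  haveI hRnormal : R.Normal := ⟨fun r hr p => hRn p hr⟩
  have hYtop : ∀ z, z ∈ Y := by
    intro z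
    have hwell : ∀ x y : P, x⁻¹ * y ∈ R → (x⁻¹ * σ x)⁻¹ * (y⁻¹ * σ y) ∈ R := fun x y hxy => by
      have h1 : σ (x⁻¹ * y) ∈ R := hR _ hxy
      have h2 : x * y⁻¹ ∈ R := by
        have := hRn x (inv_mem hxy)
        rwa [show x * (x⁻¹ * y)⁻¹ * x⁻¹ = x * y⁻¹ by group] at this
      have h3 := hRn (σ x)⁻¹ h2
      rw [show (x⁻¹ * σ x)⁻¹ * (y⁻¹ * σ y) =
        (σ x)⁻¹ * (x * y⁻¹) * (σ x)⁻¹⁻¹ * σ (x⁻¹ * y) by rw [map_mul, map_inv]; group]
      exact mul_mem h3 h1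
    let F' : P ⧸ R → P ⧸ R := Quotient.lift (fun x => ((x⁻¹ * σ x : P) : P ⧸ R)) fun x y hxy =>
      QuotientGroup.eq.mpr (hwell x y (QuotientGroup.leftRel_apply.mp hxy))
    have hinj : Function.Injective F' := by
      intro a b
      obtain ⟨x, rfl⟩ := QuotientGroup.mk_surjective a
      obtain ⟨y, rfl⟩ := QuotientGroup.mk_surjective b
      intro q
      have q' : (x⁻¹ * σ x)⁻¹ * (y⁻¹ * σ y) ∈ R := QuotientGroup.eq.mp q
      refine QuotientGroup.eq.mpr ?_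
      have hyx : (y * x⁻¹)⁻¹ * σ (y * x⁻¹) ∈ R := by
        have h4 := hRn (σ x) q'
        rw [show σ x * ((x⁻¹ * σ x)⁻¹ * (y⁻¹ * σ y)) * (σ x)⁻¹ =
          x * y⁻¹ * σ (y * x⁻¹) by rw [map_mul, map_inv]; group] at h4
        rw [show (y * x⁻¹)⁻¹ = x * y⁻¹ by group]
        exact h4
      have := hRn x⁻¹ (h.coset_fix hR hyx)
      rwa [show x⁻¹ * (y * x⁻¹) * x⁻¹⁻¹ = x⁻¹ * y by group] at this
    obtain ⟨a, ha⟩ := (Finite.injective_iff_surjective.mp hinj) (z : P ⧸ R)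
    obtain ⟨x, rfl⟩ := QuotientGroup.mk_surjective a
    have hx : x⁻¹ * σ x ∈ Y := by
      by_cases hxY : x ∈ Y
      · exact mul_mem (inv_mem hxY) (hYσ x hxY)
      refine hdiff x (σ x) hxY fun q => hxY ?_
      have h1 := aut_pow_mem hYσ (N - 1) q
      rwa [← MulAut.mul_apply, ← pow_succ, Nat.sub_add_cancel hNodd.pos, hN,
        MulAut.one_apply] at h1
    have := mul_mem hx (hRY (QuotientGroup.eq.mp ha))
    rwa [mul_inv_cancel_left] at this
  apply ht₀R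
  have hcen₀ : ∀ p, p * t₀ * p⁻¹ * t₀⁻¹ ∈ Z := fun p =>
    (hρ0 (hkR p t₀)).mp (hYtop p t₀ ht₀)
  refine hW t₀ fun r hr => ?_
  have : R ≤ Subgroup.centralizer {t₀} := by
    refine hRgen.trans (sup_le ?_ ?_)
    · exact fun w hw => Subgroup.mem_centralizer_singleton_iff.mpr (commute_commutator hcen₀ w hw)
    · exact fun z hz => Subgroup.mem_centralizer_singleton_iff.mpr
        (Subgroup.mem_center_iff.mp hz t₀).symm
  exact (Subgroup.mem_centralizer_singleton_iff.mp (this hr)).symm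

end Cfsg.Agent.H19.Suz
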