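import Cfsg.Agent.H19.Suz.Arith
import Cfsg.Agent.H38.FieldEndo

/-! Consequences of rigidity: irreducibility, semilinear maps, alternating equivariant forms. -/

set_option autoImplicit false

namespace Cfsg.Agent.H19.Suz

open Cfsg.Agent.H38

variable {F : Type*} [Field F] [Fintype F] [Fintype (F ≃+* F)] [CharP F 2]

/-- An element with pairwise distinct conjugates leaves no proper non-trivial additive subgroup
invariant. -/
theorem invariant_addSubgroup_eq_top {μ : F} (hμ : Function.Injective fun ψ : F ≃+* F => ψ μ)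
    (W : AddSubgroup F) (hinv : ∀ x ∈ W, μ * x ∈ W) (hne : W ≠ ⊥) : W = ⊤ := by
  classical
  haveI : Fact (Nat.Prime 2) := ⟨Nat.prime_two⟩
  let _ : Algebra (ZMod 2) F := ZMod.algebra F 2
  by_contra htop
  let Wm : Submodule (ZMod 2) F := AddSubgroup.toZModSubmodule 2 W
  obtain ⟨f, hf0, hfW⟩ := Wm.exists_le_ker_of_lt_top (lt_top_iff_ne_top.mpr fun q => htop <|
    (AddSubgroup.eq_top_iff' W).mpr fun x => by
      have : x ∈ Wm := q.symm ▸ Submodule.mem_top
      exact this)
  let g : F →+ F := ((Algebra.linearMap (ZMod 2) F).comp f).toAddMonoidHom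
  obtain ⟨c, hc⟩ := additive_eq_sum g
  obtain ⟨⟨w, hw⟩, hw0⟩ := AddSubgroup.ne_bot_iff_exists_ne_zero.mp hne
  have hw0' : w ≠ 0 := fun q => hw0 (Subtype.ext q)
  have hiter : ∀ i : ℕ, μ ^ i * w ∈ W := fun i => by
    induction i with
    | zero => simpa using hw
    | succ i ih => rw [pow_succ', mul_assoc]; exact hinv _ ih
  have hzero : ∀ i : ℕ, ∑ ψ : F ≃+* F, (c ψ * ψ w) * (ψ μ) ^ i = 0 := fun i => by
    have h1 : f (μ ^ i * w) = 0 := hfW (hiter i)
    have h2 : g (μ ^ i * w) = 0 := by
      show algebraMap (ZMod 2) F (f (μ ^ i * w)) = 0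
      rw [h1, map_zero]
    rw [hc] at h2
    rw [← h2]
    exact Finset.sum_congr rfl fun ψ _ => by rw [map_mul, map_pow]; ring
  have hli := Fintype.linearIndependent_iff.mp
    ((linearIndependent_monoidHom (Multiplicative ℕ) F).comp
      (fun ψ : F ≃+* F => powersHom F (ψ μ)) fun ψ χ q => hμ (by
        have := DFunLike.congr_fun q (Multiplicative.ofAdd 1)
        simpa [powersHom_apply] using this))
    (fun ψ => c ψ * ψ w) (by
      funext i
      simpa [Finset.sum_apply, powersHom_apply] using hzero i.toAdd)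
  apply hf0
  ext x
  have h0 : g x = 0 := by
    rw [hc]
    exact Finset.sum_eq_zero fun ψ _ => by
      rw [(mul_eq_zero.mp (hli ψ)).resolve_right (by simpa using hw0'), zero_mul]
  exact (algebraMap (ZMod 2) F).injective (h0.trans (map_zero _).symm)

theorem eq_univ_of_invariant {μ : F} (hμ : Function.Injective fun ψ : F ≃+* F => ψ μ)
    (S : Set F) (h0 : (0 : F) ∈ S) (hadd : ∀ x ∈ S, ∀ y ∈ S, x + y ∈ S)
    (hinv : ∀ x ∈ S, μ * x ∈ S) {w : F} (hw : w ∈ S) (hw0 : w ≠ 0) : ∀ x, x ∈ S := by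
  let W : AddSubgroup F :=
    { carrier := S
      zero_mem' := h0
      add_mem' := fun {a b} ha hb => hadd a ha b hb
      neg_mem' := fun {a} ha => by rwa [CharTwo.neg_eq] }
  have := invariant_addSubgroup_eq_top hμ W hinv fun q => hw0 (by
    have : w ∈ W := hw
    rwa [q, AddSubgroup.mem_bot] at this)
  exact fun x => show x ∈ W from this.symm ▸ AddSubgroup.mem_top x

/-- An additive map intertwining `μ` with a non-conjugate `ν` is zero. -/
theorem semilinear_eq_zero {μ ν : F} (hne : ∀ ψ : F ≃+* F, ψ μ ≠ ν) (H : F →+ F)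
    (hH : ∀ x, H (μ * x) = ν * H x) : ∀ x, H x = 0 := by
  obtain ⟨c, hc⟩ := additive_eq_sum H
  have h := autos_coeff_unique (c := fun ψ => c ψ * ψ μ) (c' := fun ψ => ν * c ψ) fun x => by
    have h1 := hH x
    rw [hc, hc, Finset.mul_sum] at h1
    simpa [map_mul, mul_assoc] using h1
  intro x
  rw [hc]
  refine Finset.sum_eq_zero fun ψ _ => ?_
  have h1 := congrFun h ψ
  have : c ψ * (ψ μ - ν) = 0 := by linear_combination h1
  rw [(mul_eq_zero.mp this).resolve_right (sub_ne_zero.mpr (hne ψ)), zero_mul]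

theorem alternating_form_eq_zero {lam : F} (hr : Rigid lam) (B : F →+ F →+ F)
    (hB : ∀ x y, B (lam * x) (lam * y) = lam * B x y) (halt : ∀ x, B x x = 0) :
    ∀ x y, B x y = 0 := by
  classical
  obtain ⟨c, hc⟩ := biadditive_eq_sum B
  have hbi : ∀ (c' : (F ≃+* F) × (F ≃+* F) → F),
      (∀ x y, ∑ p, c' p * (p.1 x * p.2 y) = 0) → ∀ p, c' p = 0 := by
    intro c' h ⟨φ, ψ⟩
    have h1 : ∀ x, ∀ ω, ∑ φ, c' (φ, ω) * φ x = 0 := fun x => congrFun <|
      autos_coeff_unique (c := fun ω => ∑ φ, c' (φ, ω) * φ x) (c' := fun _ => 0) fun y => by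
        rw [show (∑ ω : F ≃+* F, (0 : F) * ω y) = 0 by simp, ← h x y, Fintype.sum_prod_type,
          Finset.sum_comm]
        exact Finset.sum_congr rfl fun ω _ => by
          rw [Finset.sum_mul]
          exact Finset.sum_congr rfl fun φ _ => by ring
    exact congrFun (autos_coeff_unique (c := fun φ => c' (φ, ψ)) (c' := fun _ => 0)
      fun x => by simpa using h1 x ψ) φ
  let fr : F ≃+* F := RingEquiv.ofBijective (frobenius F 2)
    (Finite.injective_iff_bijective.mp (frobenius F 2).injective)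
  set h := fr.symm
  have hh : ∀ x, h x * h x = x := fun x => by
    have : fr (h x) = x := fr.apply_symm_apply x
    rw [← pow_two]
    exact this
  have hzero : ∀ p, c p * (p.1 lam * p.2 lam - lam) = 0 := hbi _ fun x y => by
    have h1 := hB x y
    rw [hc, hc, Finset.mul_sum, ← sub_eq_zero, ← Finset.sum_sub_distrib] at h1
    rw [← h1]
    exact Finset.sum_congr rfl fun p _ => by simp only [map_mul]; ring
  have honly : ∀ p, p ≠ (h, h) → c p = 0 := fun p hp =>
    (mul_eq_zero.mp (hzero p)).resolve_right fun q => hp (by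
      obtain ⟨h1, h2⟩ := hr.double p.1 p.2 h ((sub_eq_zero.mp q).trans (hh lam).symm)
      exact Prod.ext h1 h2)
  have hval : ∀ x y, B x y = c (h, h) * (h x * h y) := fun x y => by
    rw [hc]
    exact Finset.sum_eq_single _ (fun p _ hp => by rw [honly p hp, zero_mul]) (by simp)
  have hc0 : c (h, h) = 0 := by simpa [hval] using halt 1
  exact fun x y => by rw [hval, hc0, zero_mul]

end Cfsg.Agent.H19.Suz
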