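import Cfsg.Agent.H19.Suz.FieldLemmas
import Cfsg.Agent.H38.TwoGroup

/-! 2-groups with a set of automorphisms transitive on involutions, one of which acts on them as
multiplication by a rigid element of a finite field. -/

set_option autoImplicit false

namespace Cfsg.Agent.H19.Suz

open Cfsg.Agent.H38

universe u

/-- Involutions (with the identity) form a copy of a field on which `σ` is a rigid multiplication. -/
def Coords {P : Type u} [Group P] (σ : MulAut P) : Prop :=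
  ∃ (F : Type) (_ : Field F) (_ : Fintype F) (_ : CharP F 2) (e : P → F) (lam : F), Rigid lam ∧
    (∀ x y : P, x * x = 1 → y * y = 1 → (x * y) * (x * y) = 1 ∧ e (x * y) = e x + e y) ∧
    (∀ x : P, x * x = 1 → e x = 0 → x = 1) ∧
    (∀ u : F, ∃ x : P, x * x = 1 ∧ e x = u) ∧
    ∀ x : P, x * x = 1 → e (σ x) = lam * e x

/-- The hypotheses of the generalised Higman theorem. -/
structure SHyp (P : Type u) [Group P] (Y : Set (MulAut P)) (σ : MulAut P) : Prop where
  pgroup : IsPGroup 2 P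
  mem : σ ∈ Y
  trans : ∀ x y : P, x ≠ 1 → x * x = 1 → y ≠ 1 → y * y = 1 → ∃ a ∈ Y, a x = y
  odd : ∃ N : ℕ, Odd N ∧ σ ^ N = 1
  two : ∃ x y : P, x ≠ y ∧ x ≠ 1 ∧ x * x = 1 ∧ y ≠ 1 ∧ y * y = 1
  coords : Coords σ

variable {P : Type u} [Group P] {Y : Set (MulAut P)} {σ : MulAut P}

lemma SHyp.exists_pow_invol (h : SHyp P Y σ) {x : P} (hx : x ≠ 1) :
    ∃ k : ℕ, x ^ 2 ^ k ≠ 1 ∧ x ^ 2 ^ k * x ^ 2 ^ k = 1 := by
  classical
  have hex := h.pgroup x
  have hk := Nat.find_spec hex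
  have h0 : Nat.find hex ≠ 0 := fun e => hx (by simpa [e] using hk)
  obtain ⟨j, hj⟩ := Nat.exists_eq_succ_of_ne_zero h0
  refine ⟨j, Nat.find_min hex (by omega), ?_⟩
  rw [← pow_add, ← two_mul, ← pow_succ', ← Nat.succ_eq_add_one, ← hj]
  exact hk

lemma SHyp.invol_mul (h : SHyp P Y σ) {x y : P} (hx : x * x = 1) (hy : y * y = 1) :
    (x * y) * (x * y) = 1 := by
  obtain ⟨F, _, _, _, e, lam, -, hadd, -⟩ := h.coords
  exact (hadd x y hx hy).1

/-- An element of order two fixed by `σ` is trivial. -/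
lemma SHyp.invol_fix (h : SHyp P Y σ) {z : P} (hz : z * z = 1) (hfix : σ z = z) : z = 1 := by
  obtain ⟨F, _, _, _, e, lam, hr, hadd, hinj, hsurj, hlam⟩ := h.coords
  by_contra hz1
  have hez : e z ≠ 0 := fun q => hz1 (hinj z hz q)
  have h1 := hlam z hz
  rw [hfix] at h1
  have hl : lam = 1 := (mul_eq_right₀ hez).mp h1.symm
  have hall : ∀ ψ : F ≃+* F, ψ = RingEquiv.refl F := fun ψ => hr.conj_inj (by rw [hl]; simp)
  obtain ⟨a, b, hab, ha1, ha2, hb1, hb2⟩ := h.two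
  have he1 : e 1 = 0 := by
    have := (hadd 1 1 (one_mul _) (one_mul _)).2
    rw [one_mul] at this
    exact left_eq_add.mp this
  haveI : Fact (Nat.Prime 2) := ⟨Nat.prime_two⟩
  have hsq : ∀ x : F, x ^ 2 = x := fun x => by
    have := RingEquiv.congr_fun (hall (RingEquiv.ofBijective (frobenius F 2)
      (Finite.injective_iff_bijective.mp (frobenius F 2).injective))) x
    exact this
  have hone : ∀ x : F, x ≠ 0 → x = 1 := fun x hx => by
    have := hsq x
    rw [pow_two] at this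
    exact (mul_eq_left₀ hx).mp this
  apply hab
  have hea := hone (e a) fun q => ha1 (hinj a ha2 q)
  have heb := hone (e b) fun q => hb1 (hinj b hb2 q)
  have hm := hadd a b ha2 hb2
  rw [hea, heb, CharTwo.add_self_eq_zero] at hm
  have hab1 := hinj _ hm.1 hm.2
  calc a = a * (b * b) := by rw [hb2, mul_one]
    _ = b := by rw [← mul_assoc, hab1, one_mul]

lemma SHyp.fix_eq_one (h : SHyp P Y σ) {x : P} (hx : σ x = x) : x = 1 := by
  by_contra hx1
  obtain ⟨k, hk1, hk2⟩ := h.exists_pow_invol hx1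
  exact hk1 (h.invol_fix hk2 (by rw [map_pow, hx]))

lemma SHyp.invol_mem (h : SHyp P Y σ) {S : Subgroup P} (hS : ∀ x ∈ S, σ x ∈ S) (hne : S ≠ ⊥)
    {u : P} (hu : u * u = 1) : u ∈ S := by
  obtain ⟨x, hxS, hx1⟩ : ∃ x ∈ S, x ≠ 1 := by
    by_contra hh
    push Not at hh
    exact hne ((Subgroup.eq_bot_iff_forall _).mpr hh)
  obtain ⟨k, hk1, hk2⟩ := h.exists_pow_invol hx1
  obtain ⟨F, _, _, _, e, lam, hr, hadd, hinj, hsurj, hlam⟩ := h.coords
  haveI : Finite (F ≃+* F) :=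
    Finite.of_injective (fun f => (f : F → F)) DFunLike.coe_injective
  have := Fintype.ofFinite (F ≃+* F)
  have hσinv : ∀ {w : P}, w * w = 1 → σ w * σ w = 1 := fun hw => by rw [← map_mul, hw, map_one]
  obtain ⟨w, hw, hwS, hwe⟩ := eq_univ_of_invariant (μ := lam) (fun ψ χ q => hr.conj_inj q)
    {v : F | ∃ w, w * w = 1 ∧ w ∈ S ∧ e w = v}
    ⟨1, one_mul _, one_mem S, by
      have := (hadd 1 1 (one_mul _) (one_mul _)).2
      rw [one_mul] at this
      exact left_eq_add.mp this⟩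
    (by
      rintro _ ⟨a, ha, haS, rfl⟩ _ ⟨b, hb, hbS, rfl⟩
      exact ⟨a * b, (hadd a b ha hb).1, mul_mem haS hbS, (hadd a b ha hb).2⟩)
    (by
      rintro _ ⟨a, ha, haS, rfl⟩
      exact ⟨σ a, hσinv ha, hS a haS, hlam a ha⟩)
    ⟨_, hk2, pow_mem hxS _, rfl⟩ (fun q => hk1 (hinj _ hk2 q)) (e u)
  have hwu := hadd w u hw hu
  rw [hwe, CharTwo.add_self_eq_zero] at hwu
  have h1 := hinj _ hwu.1 hwu.2
  have h2 : u = w := by
    calc u = w * w * u := by rw [hw, one_mul]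
      _ = w := by rw [mul_assoc, h1, mul_one]
  exact h2 ▸ hwS

/-- The automorphisms of an invariant subgroup induced by `Y`. -/
def restrictSet (Y : Set (MulAut P)) (S : Subgroup P) : Set (MulAut S) :=
  {b | ∃ a ∈ Y, ∀ x : S, (b x : P) = a x}

lemma SHyp.restrict [Finite P] (h : SHyp P Y σ) {S : Subgroup P}
    (hS : ∀ a ∈ Y, ∀ x ∈ S, a x ∈ S) (hne : S ≠ ⊥) :
    SHyp S (restrictSet Y S) (restrictAut σ S (hS σ h.mem)) where
  pgroup := h.pgroup.to_subgroup S
  mem := ⟨σ, h.mem, fun x => restrictAut_apply _ x⟩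
  trans := fun x y hx1 hx2 hy1 hy2 => by
    obtain ⟨a, ha, hxy⟩ := h.trans x y (fun e => hx1 (Subtype.ext e)) (congrArg Subtype.val hx2)
      (fun e => hy1 (Subtype.ext e)) (congrArg Subtype.val hy2)
    exact ⟨restrictAut a S (hS a ha), ⟨a, ha, fun z => restrictAut_apply _ z⟩,
      Subtype.ext ((restrictAut_apply _ x).trans hxy)⟩
  odd := by
    obtain ⟨N, hN, hN1⟩ := h.odd
    refine ⟨N, hN, ?_⟩
    ext x
    rw [restrictAut_pow_apply, hN1]
    rfl
  two := by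
    obtain ⟨u, v, huv, hu1, hu2, hv1, hv2⟩ := h.two
    exact ⟨⟨u, h.invol_mem (hS σ h.mem) hne hu2⟩, ⟨v, h.invol_mem (hS σ h.mem) hne hv2⟩,
      fun e => huv (congrArg Subtype.val e), fun e => hu1 (congrArg Subtype.val e),
      Subtype.ext hu2, fun e => hv1 (congrArg Subtype.val e), Subtype.ext hv2⟩
  coords := by
    obtain ⟨F, i1, i2, i3, e, lam, hr, hadd, hinj, hsurj, hlam⟩ := h.coords
    refine ⟨F, i1, i2, i3, fun x => e x, lam, hr, fun x y hx hy => ?_, fun x hx q => ?_,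
      fun u => ?_, fun x hx => ?_⟩
    · obtain ⟨h1, h2⟩ := hadd x y (congrArg Subtype.val hx) (congrArg Subtype.val hy)
      exact ⟨Subtype.ext h1, h2⟩
    · exact Subtype.ext (hinj x (congrArg Subtype.val hx) q)
    · obtain ⟨x, hx, hxe⟩ := hsurj u
      exact ⟨⟨x, h.invol_mem (hS σ h.mem) hne hx⟩, Subtype.ext hx, hxe⟩
    · simp only [restrictAut_apply]
      exact hlam x (congrArg Subtype.val hx)

/-- A coset of a commutative invariant subgroup fixed by `σ` is the subgroup itself. -/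
lemma SHyp.coset_fix [Finite P] (h : SHyp P Y σ) {S : Subgroup P} [IsMulCommutative S]
    (hS : ∀ x ∈ S, σ x ∈ S) {y : P} (hy : y⁻¹ * σ y ∈ S) : y ∈ S := by
  obtain ⟨N, hNodd, hN⟩ := h.odd
  obtain ⟨w, hw, hfix⟩ := exists_fixed_of_coset h.pgroup hNodd hN hS hy
  rw [eq_inv_of_mul_eq_one_left (h.fix_eq_one hfix)]
  exact inv_mem hw

/-- An abelian 2-group of exponent `2 ^ (n + 1)` with the same data. -/
structure SHomo (A : Type u) [CommGroup A] (Y : Set (MulAut A)) (σ : MulAut A) (n : ℕ) :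
    Prop where
  exp : ∀ a : A, a ^ 2 ^ (n + 1) = 1
  top : ∃ a : A, a ^ 2 ^ n ≠ 1
  trans : ∀ u v : A, u ≠ 1 → u ^ 2 = 1 → v ≠ 1 → v ^ 2 = 1 → ∃ a ∈ Y, a u = v
  irr : ∀ S : Subgroup A, (∀ x ∈ S, σ x ∈ S) → S ≠ ⊥ → ∀ u : A, u ^ 2 = 1 → u ∈ S

end Cfsg.Agent.H19.Suz
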