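import Cfsg.Agent.H19.Suz.Hyp
import Cfsg.Agent.S3360
import Cfsg.Agent.H38.SuzukiCentre

/-! A solvable group transitive on involutions yields a rigid semilinear coordinate system. -/

set_option autoImplicit false

namespace Cfsg.Agent.H19.Suz

universe u

/-- A semilinear transitive group contains a multiplication whose order has small cofactor. -/
lemma exists_rigid_mult {V : Type u} [AddCommGroup V] [Finite V] [Nontrivial V]
    [Module (ZMod 2) V] (G : Subgroup (V ≃ₗ[ZMod 2] V))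
    (htr : ∀ v w : V, v ≠ 0 → w ≠ 0 → ∃ g ∈ G, g v = w) (h4 : 3 < Nat.card V)
    {F : Type} [Field F] [Fintype F] (e : V ≃+ F)
    (hsl : ∀ g ∈ G, ∃ (a : F) (σ : F ≃+* F), ∀ v : V, e (g v) = a * σ (e v)) :
    ∃ (_ : CharP F 2) (h : V ≃ₗ[ZMod 2] V) (lam : F), h ∈ G ∧ Rigid lam ∧ Odd (orderOf lam) ∧
      (∀ v, e (h v) = lam * e v) ∧
      ∀ t : ℕ, ∀ lam' : F, lam' = lam ^ 2 ^ t → Rigid lam' := by
  classical
  haveI : Fact (Nat.Prime 2) := ⟨Nat.prime_two⟩
  obtain ⟨n, hn⟩ : ∃ n : ℕ, Nat.card F = 2 ^ n := by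
    rw [← Nat.card_congr e.toEquiv]
    exact ⟨_, (Module.natCard_eq_pow_finrank (K := ZMod 2) (V := V)).trans (by rw [Nat.card_zmod])⟩
  have hn2 : 2 ≤ n := by
    by_contra hlt
    rw [Nat.card_congr e.toEquiv, hn] at h4
    interval_cases n <;> simp at h4
  have hchar : CharP F 2 :=
    charP_of_card_eq_prime_pow (p := 2) (f := n) (by rw [← hn, Nat.card_eq_fintype_card])
  refine ⟨hchar, ?_⟩
  haveI := hchar
  haveI : Finite (V ≃ₗ[ZMod 2] V) :=
    Finite.of_injective (fun f => (f : V → V)) DFunLike.coe_injective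
  haveI : Finite (F ≃+* F) :=
    Finite.of_injective (fun f => (f : F → F)) DFunLike.coe_injective
  choose a σ hag using hsl
  have ha0 : ∀ g (hg : g ∈ G), a g hg ≠ 0 := fun g hg q => by
    obtain ⟨v, hv⟩ := exists_ne (0 : V)
    have h1 := hag g hg v
    rw [q, zero_mul, map_eq_zero_iff e e.injective] at h1
    exact hv ((LinearEquiv.map_eq_zero_iff g).mp h1)
  have uniq : ∀ g (hg : g ∈ G) (b : F) (τ : F ≃+* F), (∀ v, e (g v) = b * τ (e v)) →
      a g hg = b ∧ σ g hg = τ := by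
    intro g hg b τ h
    have h1 : a g hg = b := by
      have h2 := (hag g hg (e.symm 1)).symm.trans (h _)
      simpa using h2
    refine ⟨h1, RingEquiv.ext fun x => ?_⟩
    have h2 := (hag g hg (e.symm x)).symm.trans (h _)
    rw [e.apply_symm_apply, h1] at h2
    exact mul_left_cancel₀ (h1 ▸ ha0 g hg) h2
  let χ : G →* (F ≃+* F) := MonoidHom.mk' (fun g => σ g g.2) fun g g' => by
    refine (uniq _ (g * g').2 (a g g.2 * σ g g.2 (a g' g'.2)) _ fun v => ?_).2
    show e ((g : V ≃ₗ[ZMod 2] V) ((g' : V ≃ₗ[ZMod 2] V) v)) = _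
    rw [hag g g.2, hag g' g'.2, map_mul, mul_assoc]
    rfl
  have hker : ∀ g : χ.ker, ∀ v, e (((g : G) : V ≃ₗ[ZMod 2] V) v) = a _ g.1.2 * e v := fun g v => by
    rw [hag _ g.1.2]
    have : σ _ g.1.2 = (1 : F ≃+* F) := g.2
    rw [this]
    rfl
  let f : χ.ker →* F :=
    { toFun := fun g => a _ g.1.2
      map_one' := (uniq _ (1 : χ.ker).1.2 1 (1 : F ≃+* F) fun v => by rw [one_mul]; rfl).1
      map_mul' := fun g g' => by
        refine (uniq _ (g.1 * g'.1).2 _ (1 : F ≃+* F) fun v => ?_).1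
        show e ((g.1 : V ≃ₗ[ZMod 2] V) ((g'.1 : V ≃ₗ[ZMod 2] V) v)) = _
        rw [hker g, hker g', mul_assoc]
        rfl }
  have hfinj : Function.Injective f := fun g g' q => by
    refine Subtype.ext (Subtype.ext (LinearEquiv.ext fun v => e.injective ?_))
    rw [hker g, hker g', show a _ g.1.2 = a _ g'.1.2 from q]
  haveI : IsCyclic χ.ker := isCyclic_of_injective_ringHom f hfinj
  obtain ⟨h, hh⟩ := IsCyclic.exists_generator (α := χ.ker)
  set lam := f h with hlamdef
  have hord : orderOf lam = Nat.card χ.ker := by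
    rw [hlamdef, orderOf_injective f hfinj, orderOf_eq_card_of_forall_mem_zpowers hh]
  -- the order bound
  obtain ⟨v₀, hv₀⟩ := exists_ne (0 : V)
  have horb : Nat.card (MulAction.orbit G v₀) = 2 ^ n - 1 := by
    have heq : MulAction.orbit G v₀ = {v | v ≠ 0} := by
      ext v
      refine ⟨?_, fun hv => ?_⟩
      · rintro ⟨g, rfl⟩ q
        exact hv₀ ((LinearEquiv.map_eq_zero_iff (g : V ≃ₗ[ZMod 2] V)).mp q)
      · obtain ⟨g, hg, hgv⟩ := htr v₀ v hv₀ hv
        exact ⟨⟨g, hg⟩, hgv⟩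
    rw [heq, ← hn, ← Nat.card_congr e.toEquiv]
    haveI := Fintype.ofFinite V
    rw [Nat.card_eq_fintype_card, Nat.card_eq_fintype_card]
    show Fintype.card {v : V // ¬ v = 0} = _
    rw [Fintype.card_subtype_compl]
    simp
  have hdvd : 2 ^ n - 1 ∣ Nat.card χ.ker * Nat.card χ.range := by
    rw [← Subgroup.index_ker χ, χ.ker.card_mul_index, ← horb]
    exact ⟨_, ((Nat.card_congr (MulAction.orbitProdStabilizerEquivGroup G v₀)).symm.trans
      (Nat.card_prod _ _))⟩
  have hk : Nat.card χ.range ∣ n := card_ringEquiv_two hn ▸ Subgroup.card_subgroup_dvd_card χ.range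
  have hlam0 : lam ≠ 0 := ha0 _ h.1.2
  have hm : orderOf lam ∣ 2 ^ n - 1 := by
    refine orderOf_dvd_of_pow_eq_one ?_
    rw [← hn, Nat.card_eq_fintype_card]
    exact FiniteField.pow_card_sub_one_eq_one lam hlam0
  obtain ⟨d, hd⟩ := hm
  have hdn : d ∣ n := by
    refine dvd_trans ?_ hk
    rw [hd, ← hord] at hdvd
    refine Nat.dvd_of_mul_dvd_mul_left ?_ hdvd
    rw [hord]
    exact Nat.card_pos
  have hodd : Odd (orderOf lam) := by
    refine Odd.of_dvd_nat ?_ (Dvd.intro d hd.symm)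
    have h2 : 2 ^ n = 2 * 2 ^ (n - 1) := by rw [← pow_succ', show n - 1 + 1 = n by omega]
    have h1 : 0 < 2 ^ (n - 1) := Nat.two_pow_pos _
    exact Nat.odd_iff.mpr (by omega)
  refine ⟨_, lam, h.1.2, rigid_of_order hn2 hn hdn hlam0 hd.symm, hodd, hker h,
    fun t lam' ht => ?_⟩
  refine rigid_of_order hn2 hn hdn (ht ▸ pow_ne_zero _ hlam0) ?_
  rw [ht, Nat.Coprime.orderOf_pow ((Nat.coprime_two_right.mpr hodd).pow_right t), hd]

theorem exists_shyp {G : Type u} [Group G] [Finite G] (hG : IsPGroup 2 G)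
    (htwo : ∃ x y : G, x ≠ y ∧ x ≠ 1 ∧ x * x = 1 ∧ y ≠ 1 ∧ y * y = 1)
    (Y : Subgroup (MulAut G)) (hsol : Group.IsSolvable Y)
    (htr : ∀ x y : G, x ≠ 1 → x * x = 1 → y ≠ 1 → y * y = 1 → ∃ a ∈ Y, a x = y) :
    ∃ σ : MulAut G, SHyp G (Y : Set (MulAut G)) σ := by
  classical
  haveI : Fact (Nat.Prime 2) := ⟨Nat.prime_two⟩
  obtain ⟨x₀, y₀, hxy, hx1, hx2, hy1, hy2⟩ := htwo
  haveI : Nontrivial G := ⟨x₀, 1, hx1⟩
  haveI : Nontrivial (Subgroup.center G) := hG.center_nontrivial
  have hcen : ∀ x : G, x * x = 1 → x ∈ Subgroup.center G := by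
    intro x hx
    by_cases hx' : x = 1
    · exact hx' ▸ one_mem _
    obtain ⟨m, hm⟩ := IsPGroup.iff_card.mp (hG.to_subgroup (Subgroup.center G))
    have h1 : 1 < Nat.card (Subgroup.center G) := Finite.one_lt_card
    obtain ⟨z, hz⟩ := exists_prime_orderOf_dvd_card' (G := Subgroup.center G) 2 (by
      rw [hm]; exact dvd_pow_self 2 (by rintro rfl; simp [hm] at h1))
    have hz1 : (z : G) ≠ 1 := fun q => by
      rw [show z = 1 from Subtype.ext q, orderOf_one] at hz; omega
    have hz2 : (z : G) * z = 1 := by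
      have := pow_orderOf_eq_one z
      rw [hz, pow_two] at this
      exact congrArg Subtype.val this
    obtain ⟨a, -, rfl⟩ := htr z x hz1 hz2 hx' hx
    exact H38.center_invariant a z z.2
  let Ω : Subgroup G :=
    { carrier := {x | x * x = 1}
      one_mem' := one_mul 1
      mul_mem' := fun {a b} (ha : a * a = 1) (hb : b * b = 1) => by
        show a * b * (a * b) = 1
        rw [show a * b * (a * b) = a * (b * a) * b by group,
          Subgroup.mem_center_iff.mp (hcen a ha) b, show a * (a * b) * b = (a * a) * (b * b) by group,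
          ha, hb, one_mul]
      inv_mem' := fun {a} (ha : a * a = 1) => by
        show a⁻¹ * a⁻¹ = 1
        rw [← mul_inv_rev, ha, inv_one] }
  have hΩ : ∀ {x : G}, x ∈ Ω ↔ x * x = 1 := Iff.rfl
  letI : CommGroup Ω :=
    { (inferInstance : Group Ω) with
      mul_comm := fun a b => Subtype.ext
        (Subgroup.mem_center_iff.mp (hcen b (hΩ.mp b.2)) a) }
  let W := Additive Ω
  letI : Module (ZMod 2) W := AddCommGroup.zmodModule fun v => by
    rw [two_nsmul]
    exact Subtype.ext (hΩ.mp (Additive.toMul v).2)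
  haveI : Finite W := Finite.of_equiv Ω Additive.ofMul
  haveI : Nontrivial W := ⟨Additive.ofMul ⟨x₀, hx2⟩, 0, fun q =>
    hx1 (congrArg Subtype.val (congrArg Additive.toMul q))⟩
  have hinvΩ : ∀ (a : MulAut G), ∀ x ∈ Ω, a x ∈ Ω := fun a x hx => by
    rw [hΩ] at hx ⊢; rw [← map_mul, hx, map_one]
  let toL : MulAut G → (W ≃ₗ[ZMod 2] W) := fun a =>
    { (MulEquiv.toAdditive (H38.restrictAut a Ω (hinvΩ a))) with
      map_smul' := fun c v => ZMod.map_smul
        (MulEquiv.toAdditive (H38.restrictAut a Ω (hinvΩ a))).toAddMonoidHom c v }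
  have htoL : ∀ a v, ((Additive.toMul (toL a v) : Ω) : G) = a ((Additive.toMul v : Ω) : G) :=
    fun a v => H38.restrictAut_apply (hinvΩ a) (Additive.toMul v)
  have hext : ∀ {v w : W}, ((Additive.toMul v : Ω) : G) = ((Additive.toMul w : Ω) : G) → v = w :=
    fun q => Additive.toMul.injective (Subtype.ext q)
  let L : Y →* (W ≃ₗ[ZMod 2] W) := MonoidHom.mk' (fun a => toL a) fun a b =>
    LinearEquiv.ext fun v => hext (by
      show ((Additive.toMul (toL _ v) : Ω) : G) = ((Additive.toMul (toL _ (toL _ v)) : Ω) : G)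
      rw [htoL, htoL, htoL]
      rfl)
  haveI : Finite (W ≃ₗ[ZMod 2] W) :=
    Finite.of_injective (fun f => (f : W → W)) DFunLike.coe_injective
  have htrW : ∀ v w : W, v ≠ 0 → w ≠ 0 → ∃ g ∈ L.range, g v = w := by
    intro v w hv hw
    obtain ⟨a, ha, haq⟩ := htr _ _ (fun q => hv (hext q)) (hΩ.mp (Additive.toMul v).2)
      (fun q => hw (hext q)) (hΩ.mp (Additive.toMul w).2)
    exact ⟨L ⟨a, ha⟩, ⟨_, rfl⟩, hext ((htoL a v).trans haq)⟩
  haveI := hsol
  obtain ⟨n, hn⟩ : ∃ n : ℕ, Nat.card W = 2 ^ n :=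
    ⟨_, (Module.natCard_eq_pow_finrank (K := ZMod 2) (V := W)).trans (by rw [Nat.card_zmod])⟩
  have h3 : 3 < Nat.card W := by
    have h1 : 2 < Nat.card W := by
      haveI := Fintype.ofFinite W
      rw [Nat.card_eq_fintype_card, Fintype.two_lt_card_iff]
      exact ⟨0, Additive.ofMul ⟨x₀, hx2⟩, Additive.ofMul ⟨y₀, hy2⟩,
        fun q => hx1 (congrArg Subtype.val (congrArg Additive.toMul q)).symm,
        fun q => hy1 (congrArg Subtype.val (congrArg Additive.toMul q)).symm,
        fun q => hxy (congrArg Subtype.val (congrArg Additive.toMul q))⟩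
    rw [hn] at h1 ⊢
    rcases n with _ | _ | n <;> simp_all [pow_succ]
    have := Nat.two_pow_pos n
    omega
  rcases S3360.result 2 (V := W) (G := L.range)
      (solvable_of_surjective (f := L.rangeRestrict) L.rangeRestrict_surjective) L.range.subtype
      Subtype.val_injective (fun v w hv hw => by
        obtain ⟨g, hg, q⟩ := htrW v w hv hw
        exact ⟨⟨g, hg⟩, q⟩) with ⟨F, _, _, e, he⟩ | hbad
  swap
  · exfalso
    rw [hn] at hbad
    have hev : Even (2 ^ n) := by
      rcases n with _ | n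
      · simp [hn] at h3
      · rw [pow_succ]; exact even_two.mul_left _
    simp only [Set.mem_insert_iff, Set.mem_singleton_iff] at hbad
    rcases hbad with q | q | q | q | q | q <;> rw [q] at hev <;> revert hev <;> decide
  obtain ⟨hchar, h, lam, ⟨y, rfl⟩, -, hodd, hlam, hpow⟩ := exists_rigid_mult L.range htrW h3 e
    (fun g hg => by
      obtain ⟨a, σ, q⟩ := he ⟨g, hg⟩
      exact ⟨a, σ, q⟩)
  haveI : Finite (MulAut G) :=
    Finite.of_injective (fun f : MulAut G => (f : G → G)) DFunLike.coe_injective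
  obtain ⟨t, N, hNodd, hord⟩ := Nat.exists_eq_two_pow_mul_odd (orderOf_pos (y : MulAut G)).ne'
  refine ⟨(y : MulAut G) ^ 2 ^ t, ⟨hG, pow_mem y.2 _, htr, ⟨N, hNodd, ?_⟩,
    ⟨x₀, y₀, hxy, hx1, hx2, hy1, hy2⟩, ?_⟩⟩
  · rw [← pow_mul, ← hord, pow_orderOf_eq_one]
  let ev : G → F := fun x => if hx : x * x = 1 then e (Additive.ofMul (⟨x, hx⟩ : Ω)) else 0
  have hev : ∀ {x : G} (hx : x * x = 1), ev x = e (Additive.ofMul (⟨x, hx⟩ : Ω)) :=
    fun hx => dif_pos hx
  have hiter : ∀ (i : ℕ) (v : W), e ((L (y ^ i)) v) = lam ^ i * e v := by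
    intro i
    induction i with
    | zero => intro v; rw [pow_zero, map_one, pow_zero, one_mul]; rfl
    | succ i ih =>
      intro v
      rw [pow_succ, map_mul]
      show e ((L (y ^ i)) ((L y) v)) = _
      rw [ih, hlam, ← mul_assoc, ← pow_succ]
  refine ⟨F, inferInstance, inferInstance, hchar, ev, lam ^ 2 ^ t, hpow t _ rfl,
    fun x z hx hz => ?_, fun x hx q => ?_, fun u => ?_, fun x hx => ?_⟩
  · have hxz : (x * z) * (x * z) = 1 := hΩ.mp (mul_mem (hΩ.mpr hx) (hΩ.mpr hz))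
    refine ⟨hxz, ?_⟩
    rw [hev hx, hev hz, hev hxz, ← map_add]
    rfl
  · rw [hev hx, map_eq_zero_iff e e.injective] at q
    exact congrArg Subtype.val (congrArg Additive.toMul q)
  · refine ⟨_, hΩ.mp (Additive.toMul (e.symm u)).2, ?_⟩
    rw [hev (hΩ.mp (Additive.toMul (e.symm u)).2)]
    exact e.apply_symm_apply u
  · have hσx : ((y : MulAut G) ^ 2 ^ t) x * ((y : MulAut G) ^ 2 ^ t) x = 1 := by
      rw [← map_mul, hx, map_one]
    rw [hev hx, hev hσx, ← hiter]
    refine congrArg e (hext ?_)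
    show _ = ((Additive.toMul (toL _ _) : Ω) : G)
    rw [htoL, SubmonoidClass.coe_pow]
    rfl

end Cfsg.Agent.H19.Suz
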