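import Cfsg.Agent.H19.Suz.Homo
import Cfsg.Agent.H38.SquareForm

/-! Forms transported along the squaring map. -/

set_option autoImplicit false

namespace Cfsg.Agent.H19.Suz

open Cfsg.Agent.H38
open scoped IsMulCommutative

universe u

variable {P : Type u} [Group P] [Finite P] {Y : Set (MulAut P)} {σ : MulAut P}

variable {T : Subgroup P} [IsMulCommutative T] {hT : ∀ x ∈ T, σ x ∈ T} {YT : Set (MulAut T)} {n : ℕ}

/-- The hypotheses make `y ↦ (y²)^(2^n)` a surjective homomorphism `P → Ω₁(T)` with kernel `T`;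
an alternating equivariant form on it is trivial. -/
lemma s_form_eq_one (h : SHyp P Y σ) (hh : SHomo T YT (restrictAut σ T hT) n) (hne : T ≠ ⊤)
    (hsq : ∀ y : P, y * y ∈ T)
    (hadd : ∀ y y' : P,
      (sqIn T hsq (y * y')) ^ 2 ^ n = (sqIn T hsq y) ^ 2 ^ n * (sqIn T hsq y') ^ 2 ^ n)
    (hinj : ∀ y : P, (sqIn T hsq y) ^ 2 ^ n = 1 → y ∈ T)
    (F : P → P → T) (hF2 : ∀ y w, F y w ^ 2 = 1)
    (hFl : ∀ y y' w, F (y * y') w = F y w * F y' w) (hFr : ∀ y w w', F y (w * w') = F y w * F y w')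
    (hkl : ∀ y ∈ T, ∀ w, F y w = 1) (hkr : ∀ w ∈ T, ∀ y, F y w = 1)
    (heq : ∀ y w, restrictAut σ T hT (F y w) = F (σ y) (σ w)) (hdiag : ∀ y, F y y = 1) :
    (∀ y w, F y w = 1) ∧ ∀ a : T, ∃ y, ((sqIn T hsq y)⁻¹ * a) ^ 2 ^ n = 1 := by
  set τ := restrictAut σ T hT with hτ
  let E : Subgroup T := (powMonoidHom 2 : T →* T).ker
  have hEmem : ∀ {x : T}, x ∈ E ↔ x ^ 2 = 1 := Iff.rfl
  have hE : ∀ x ∈ E, τ x ∈ E := fun x hx => by
    rw [hEmem] at hx ⊢; rw [← map_pow, hx, map_one]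
  let τE : MulAut E := restrictAut τ E hE
  let ψ : P →* E := MonoidHom.mk' (fun y => ⟨sqIn T hsq y ^ 2 ^ n, by
    rw [hEmem, ← pow_mul, ← pow_succ]; exact hh.exp _⟩) fun y y' => Subtype.ext (hadd y y')
  have hψτ : ∀ y, τE (ψ y) = ψ (σ y) := fun y => Subtype.ext <| by
    rw [restrictAut_apply]
    show τ (sqIn T hsq y ^ 2 ^ n) = sqIn T hsq (σ y) ^ 2 ^ n
    rw [map_pow, sqIn_equivariant]
  have hker : ∀ y, ψ y = 1 ↔ y ∈ T := by
    refine fun y => ⟨fun e => hinj y (congrArg Subtype.val e), fun hy => Subtype.ext ?_⟩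
    show sqIn T hsq y ^ 2 ^ n = 1
    rw [show sqIn T hsq y = (⟨y, hy⟩ : T) ^ 2 from Subtype.ext (pow_two y).symm, ← pow_mul,
      ← pow_succ']
    exact hh.exp _
  obtain ⟨y₀, -, hy₀⟩ := SetLike.exists_of_lt (lt_top_iff_ne_top.mpr hne)
  have hψ0 : ψ y₀ ≠ 1 := fun e => hy₀ ((hker y₀).mp e)
  have hsurj : Function.Surjective ψ := by
    intro v
    obtain ⟨_, ⟨y, rfl⟩, hy⟩ := hh.irr (ψ.range.map E.subtype)
      (by
        rintro _ ⟨_, ⟨y, rfl⟩, rfl⟩
        exact ⟨ψ (σ y), ⟨σ y, rfl⟩, by rw [← hψτ]; exact restrictAut_apply hE _⟩)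
      (fun q => hψ0 (Subtype.ext (Subgroup.mem_bot.mp (q ▸
        Subgroup.mem_map_of_mem E.subtype (MonoidHom.mem_range.mpr ⟨y₀, rfl⟩)))))
      v (hEmem.mp v.2)
    exact ⟨y, Subtype.ext hy⟩
  choose sec hsec using hsurj
  have hwell : ∀ y y' : P, ψ y = ψ y' → y⁻¹ * y' ∈ T := fun y y' e =>
    (hker _).mp (by rw [map_mul, map_inv, e, inv_mul_cancel])
  have hl : ∀ y y' w, ψ y = ψ y' → F y w = F y' w := fun y y' w e => by
    rw [show y' = y * (y⁻¹ * y') by group, hFl, hkl _ (hwell y y' e), mul_one]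
  have hr : ∀ y w w', ψ w = ψ w' → F y w = F y w' := fun y w w' e => by
    rw [show w' = w * (w⁻¹ * w') by group, hFr, hkr _ (hwell w w' e), mul_one]
  let B : E →* E →* E := MonoidHom.mk' (fun u => MonoidHom.mk'
      (fun v => (⟨F (sec u) (sec v), hEmem.mpr (hF2 _ _)⟩ : E)) fun v v' => Subtype.ext <| by
        show F _ _ = F _ _ * F _ _
        rw [← hFr]; exact hr _ _ _ (by rw [map_mul, hsec, hsec, hsec]))
    fun u u' => MonoidHom.ext fun v => Subtype.ext <| by
      show F _ _ = F _ _ * F _ _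
      rw [← hFl]; exact hl _ _ _ (by rw [map_mul, hsec, hsec, hsec])
  have hBσ : ∀ u v, B (τE u) (τE v) = τE (B u v) := fun u v => Subtype.ext <| by
      rw [restrictAut_apply]
      show F (sec (τE u)) (sec (τE v)) = τ (F (sec u) (sec v))
      rw [heq, hl _ (σ (sec u)) _ (by rw [← hψτ, hsec, hsec]),
        hr _ _ (σ (sec v)) (by rw [← hψτ, hsec, hsec])]
  have hB : ∀ u v, B u v = 1 := by
    obtain ⟨K, _, _, _, e, lam, hrig, hadd', hinj', hsurj', hlam'⟩ := h.coords
    haveI : Finite (K ≃+* K) := Finite.of_injective (fun f => (f : K → K)) DFunLike.coe_injective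
    have := Fintype.ofFinite (K ≃+* K)
    have hTne : T ≠ ⊥ := fun q => by
      obtain ⟨a, ha⟩ := hh.top
      exact ha (by
        have h1 : (a : P) = 1 := Subgroup.mem_bot.mp (q ▸ a.2)
        rw [show a = 1 from Subtype.ext h1, one_pow])
    let co : E → K := fun u => e ((u : T) : P)
    have hu2 : ∀ u : E, ((u : T) : P) * ((u : T) : P) = 1 := fun u => by
      have h1 := congrArg Subtype.val (hEmem.mp u.2)
      simpa [pow_two] using h1
    have hco : ∀ u v, co (u * v) = co u + co v := fun u v => (hadd' _ _ (hu2 u) (hu2 v)).2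
    have hco0 : ∀ u, co u = 0 → u = 1 := fun u q =>
      Subtype.ext (Subtype.ext (hinj' _ (hu2 u) q))
    have hex : ∀ k, ∃ u, co u = k := fun k => by
      obtain ⟨x, hx, rfl⟩ := hsurj' k
      refine ⟨⟨⟨x, h.invol_mem hT hTne hx⟩, hEmem.mpr ?_⟩, rfl⟩
      exact Subtype.ext (by simpa [pow_two] using hx)
    choose inv hinv using hex
    have hcinj : Function.Injective co := fun u v q => by
      have h1 := hco0 (u * v) (by rw [hco, q, CharTwo.add_self_eq_zero])
      have h2 : v * v = 1 := Subtype.ext (Subtype.ext (hu2 v))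
      calc u = u * (v * v) := by rw [h2, mul_one]
        _ = v := by rw [← mul_assoc, h1, one_mul]
    have hinvadd : ∀ a b, inv (a + b) = inv a * inv b := fun a b =>
      hcinj (by rw [hco, hinv, hinv, hinv])
    have hcoσ : ∀ u, co (τE u) = lam * co u := fun u => by
      show e _ = lam * e _
      simp only [τE, τ, restrictAut_apply]
      exact hlam' _ (hu2 u)
    let Bf : K →+ K →+ K := AddMonoidHom.mk' (fun a => AddMonoidHom.mk'
        (fun b => co (B (inv a) (inv b))) fun b b' => by rw [hinvadd, map_mul, hco])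
      fun a a' => by ext b; simp [hinvadd, hco]
    have hBf := Suz.alternating_form_eq_zero hrig Bf (fun a b => by
        show co (B (inv (lam * a)) (inv (lam * b))) = lam * co (B (inv a) (inv b))
        rw [← hcoσ, ← hBσ,
          hcinj (show co (inv (lam * a)) = co (τE (inv a)) by rw [hinv, hcoσ, hinv]),
          hcinj (show co (inv (lam * b)) = co (τE (inv b)) by rw [hinv, hcoσ, hinv])])
      (fun a => by
        show co (B (inv a) (inv a)) = 0
        rw [show B (inv a) (inv a) = 1 from Subtype.ext (hdiag _)]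
        have h1 := hco 1 1
        rw [one_mul] at h1
        exact left_eq_add.mp h1)
    intro u v
    apply hco0
    have h1 : co (B (inv (co u)) (inv (co v))) = 0 := hBf (co u) (co v)
    rwa [hcinj (hinv (co u)), hcinj (hinv (co v))] at h1
  refine ⟨fun y w => ?_, fun a => ?_⟩
  · have h1 : F (sec (ψ y)) (sec (ψ w)) = 1 := congrArg Subtype.val (hB (ψ y) (ψ w))
    rwa [hl _ y _ (hsec _), hr _ _ w (hsec _)] at h1
  · obtain ⟨y, hy⟩ : ∃ y, ψ y = ⟨a ^ 2 ^ n, by
      rw [hEmem, ← pow_mul, ← pow_succ]; exact hh.exp _⟩ := ⟨_, hsec _⟩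
    refine ⟨y, ?_⟩
    have h1 : sqIn T hsq y ^ 2 ^ n = a ^ 2 ^ n := congrArg Subtype.val hy
    rw [mul_pow, inv_pow, h1, inv_mul_cancel]

end Cfsg.Agent.H19.Suz
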